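import Groth.Agent.DCohShriek.BaseChange
import Groth.Agent.DCohShriek.AdjointShift
import Groth.Agent.DCohShriek.AffineAdjoint
import Groth.Agent.CohProperPush.TorPush
import Groth.Agent.CohProperPush.Perfect
import Groth.Agent.FMPerf.Basic
import Groth.Agent.PerfPush.Unit
import Groth.Agent.DerPush.Basic
import Groth.Agent.DQCoh.AffineAmp
import Groth.Agent.DQCoh.AffinePerf
import Groth.Agent.DualSch.SelfDual
import Groth.Agent.DualSch.SelfInv
import Groth.Agent.ShriekAffine.Chart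
import Groth.Agent.KFlat.TorFlat

/-!
The higher cohomology sheaves of `Rf_* a(O)` vanish for `f` proper flat of finite presentation.
-/

set_option autoImplicit false
set_option backward.isDefEq.respectTransparency false
set_option backward.isDefEq.respectTransparency.types false
set_option linter.style.haveILetI false
set_option linter.unusedSectionVars false
set_option maxHeartbeats 1600000

universe u

open CategoryTheory Limits AlgebraicGeometry

attribute [local instance] HasDerivedCategory.standard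

namespace Groth.Agent.ShriekAffine

open Groth.Agent.DQCoh (RD rdComp rdCongr)
open Groth.Agent.DCohShriek (rdQ)

noncomputable section

/-- restriction along an isomorphism -/
def rdEquiv {T V : Scheme.{u}} (e : T ≅ V) : DCoh.D V ≌ DCoh.D T :=
  CategoryTheory.Equivalence.mk (RD e.hom) (RD e.inv)
    ((PerfGen.rdId V).symm ≪≫ rdCongr e.inv_hom_id.symm ≪≫ rdComp e.inv e.hom)
    ((rdComp e.hom e.inv).symm ≪≫ rdCongr e.hom_inv_id ≪≫ PerfGen.rdId T)

/-- no maps from a perfect object of tor amplitude `≥ 0` to positive shifts of `O` -/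
theorem subsingleton_hom_spec {A : Type u} [CommRing A] {P : DCoh.D (Spec (CommRingCat.of A))}
    (hP : DCoh.IsPerfect P) {b : ℤ} (hamp : DCoh.HasFlatAmplitudeIn 0 b P) {i : ℤ} (hi : 0 < i) :
    Subsingleton (P ⟶ (DCoh.inD (Spec (CommRingCat.of A)) (Coh.structureModule (Spec (CommRingCat.of A))))⟦i⟧) := by
  haveI : PreservesFiniteLimits (tilde.functor (CommRingCat.of A)) := QC.tilde_preservesFiniteLimits
  obtain ⟨hfull, hfaith, hqc⟩ := DQCoh.tildeD_affine (R := CommRingCat.of A)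
  obtain ⟨M, ⟨eM⟩⟩ := (hqc P).1 (PerfGen.isQCohD_of_isPerfect hP)
  have hM : DRing.IsPerfect A M := (DQCoh.perfect_tilde_iff M).1 (DQCoh.perfect_of_iso eM.symm hP)
  obtain ⟨G, hG, hfl, ⟨eG⟩⟩ := hamp
  have hMamp : DRing.HasTorAmplitudeIn A 0 b M :=
    DQCoh.torAmplitude_of_flatAmplitude_tilde (R := CommRingCat.of A) ⟨G, hG, hfl, ⟨eG ≪≫ eM.symm⟩⟩
  obtain ⟨E, hE, hEp, ⟨eE⟩⟩ := DRingKP.exists_finiteProjective_rep (DRingKP.pc'_of_isPerfect hM) hMamp
  have h1 : Subsingleton (M ⟶ (Dual.inD A A)⟦i⟧) := DRingKP.subsingleton_hom hE (fun k => (hEp k).2) eE fun k hk => by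
    refine IsZero.of_iso ?_ (((DerivedCategory.homologyFunctor (ModuleCat.{u} A) 0).shiftIso i k (i + k) rfl).app
      (Dual.inD A A))
    haveI := DualCx.subsingleton_hd_inD A (j := i + k) (by omega) (A := A)
    exact ModuleCat.isZero_of_subsingleton
      ((DerivedCategory.homologyFunctor (ModuleCat.{u} A) (i + k)).obj (Dual.inD A A))
  obtain ⟨e₂⟩ := DualSch.nonempty_restrict_structureModule (A := A) (𝟙 (Spec (CommRingCat.of A)))
  let eO : DCoh.inD (Spec (CommRingCat.of A)) (Coh.structureModule (Spec (CommRingCat.of A))) ≅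
      (DCoh.tildeD (CommRingCat.of A)).obj (Dual.inD A A) := (PerfGen.rdId _).symm.app _ ≪≫ e₂
  haveI := hfull
  haveI := hfaith
  let eS : (DCoh.tildeD (CommRingCat.of A)).obj ((Dual.inD A A)⟦i⟧) ≅
      (DCoh.inD (Spec (CommRingCat.of A)) (Coh.structureModule (Spec (CommRingCat.of A))))⟦i⟧ :=
    ((DCoh.tildeD (CommRingCat.of A)).commShiftIso i).app (Dual.inD A A) ≪≫ (shiftFunctor _ i).mapIso eO.symm
  exact (((Functor.FullyFaithful.ofFullyFaithful (DCoh.tildeD (CommRingCat.of A))).homEquiv (X := M)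
    (Y := (Dual.inD A A)⟦i⟧)).trans (Iso.homCongr eM eS)).symm.subsingleton

/-- a quasi-coherent object without maps from `O[-i]` has no `H^i` -/
theorem isZero_hd_spec {A : Type u} [CommRing A] {G : DCoh.D (Spec (CommRingCat.of A))} (hG : DCoh.IsQCohD G) {i : ℤ}
    (h : Subsingleton (DCoh.inD (Spec (CommRingCat.of A)) (Coh.structureModule (Spec (CommRingCat.of A))) ⟶ G⟦i⟧)) :
    IsZero (DCoh.HD G i) := by
  haveI : PreservesFiniteLimits (tilde.functor (CommRingCat.of A)) := QC.tilde_preservesFiniteLimits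
  obtain ⟨hfull, hfaith, hqc⟩ := DQCoh.tildeD_affine (R := CommRingCat.of A)
  obtain ⟨M, ⟨eM⟩⟩ := (hqc G).1 hG
  obtain ⟨e₂⟩ := DualSch.nonempty_restrict_structureModule (A := A) (𝟙 (Spec (CommRingCat.of A)))
  let eO : DCoh.inD (Spec (CommRingCat.of A)) (Coh.structureModule (Spec (CommRingCat.of A))) ≅
      (DCoh.tildeD (CommRingCat.of A)).obj (Dual.inD A A) := (PerfGen.rdId _).symm.app _ ≪≫ e₂
  haveI := hfull
  haveI := hfaith
  haveI : Subsingleton (DualCx.T M A i) :=
    (((Functor.FullyFaithful.ofFullyFaithful (DCoh.tildeD (CommRingCat.of A))).homEquiv).trans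
      (Iso.homCongr eO.symm (((DCoh.tildeD (CommRingCat.of A)).commShiftIso i).app M ≪≫
        (shiftFunctor _ i).mapIso eM))).subsingleton
  haveI : Subsingleton (Dual.HD A M i) := (DualCx.homEquiv M i).symm.toEquiv.subsingleton
  exact ((tilde.functor (CommRingCat.of A)).map_isZero (@ModuleCat.isZero_of_subsingleton _ _ _ ‹_›)).of_iso
    ((DerivedCategory.homologyFunctor _ i).mapIso eM.symm ≪≫ DQCoh.hdTildeIso (R := CommRingCat.of A) M i)

variable {X Y : Scheme.{u}} (f : X ⟶ Y) [IsProper f] [Flat f] [LocallyOfFinitePresentation f] [DCoh.HasRpush f]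

/-- perfect objects push forward to perfect objects -/
theorem isPerfect_rpush' {P : DCoh.D X} (hP : DCoh.IsPerfect P) : DCoh.IsPerfect ((DCoh.Rpush f).obj P) := by
  let O := Coh.structureModule X
  haveI := KFlat.hasLTensorMod O
  haveI : IsProper (𝟙 X ≫ f) := by rw [Category.id_comp]; infer_instance
  have hq : Coh.IsQCoh O := QC.isQCoh_unit X
  have hp := PerfPush.pushPerf f hP O (SchDense.isFP_unit X) (SchDense.isFlatOver_unit f)
    (ClSubLib.isProperOver_of_subset f (𝟙 X) _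
      (haveI := hq; QC.isClosed_support (ModDesc.isFT_of_isFP (SchDense.isFP_unit X))) (fun x _ => ⟨x, rfl⟩))
  obtain ⟨P', hP', -, ⟨e⟩⟩ := KFlat.exists_isKFlat_rep P
  let u : (KFlat.tR O).obj P' ≅ P' :=
    (NatIso.mapHomologicalComplex (DQCoh.tensUnitNat X) (ComplexShape.up ℤ)).app P' ≪≫
      (Functor.mapHomologicalComplexIdIso X.Modules (ComplexShape.up ℤ)).app P'
  exact DQCoh.perfect_of_iso ((DCoh.Rpush f).mapIso ((DCoh.LTensorMod O).mapIso e.symm ≪≫
    KFlat.lTensorModIso O hP' ≪≫ DerivedCategory.Q.mapIso u ≪≫ e)) hp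

/-- tor amplitude of `Rf_* O` starts in degree `0` -/
theorem exists_amp_rpush_unit [CompactSpace Y] [QuasiSeparatedSpace Y] :
    ∃ b : ℤ, DCoh.HasFlatAmplitudeIn 0 b ((DCoh.Rpush f).obj (DCoh.inD X (Coh.structureModule X))) := by
  haveI : PreservesFiniteLimits (Scheme.Modules.pullback (𝟙 X)) := inferInstance
  let F := (HomologicalComplex.single X.Modules (ComplexShape.up ℤ) 0).obj (Coh.structureModule X)
  let eF : DCoh.toD X F ≅ DCoh.inD X (Coh.structureModule X) :=
    ((DerivedCategory.singleFunctorIsoCompQ X.Modules 0).app (Coh.structureModule X)).symm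
  have hrel : DCoh.HasRelFlatAmplitudeIn f 0 0 (DCoh.toD X F) :=
    ⟨F, fun i hi => HomologicalComplex.isZero_single_obj_X _ _ _ i (by omega), fun i => by
      by_cases h : i = 0
      · subst h
        exact fun x => FlatLimMod.isFlatOverAt_of_iso f
          (HomologicalComplex.singleObjXSelf (ComplexShape.up ℤ) 0 _).symm (SchDense.isFlatOver_unit f x)
      · intro x
        have hz := (HomologicalComplex.isZero_single_obj_X (ComplexShape.up ℤ) 0 (Coh.structureModule X) i h)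
        haveI := ModuleCat.subsingleton_of_isZero ((DerSch.stalkFunctor X x).map_isZero hz)
        letI := FlatMod.moduleStalkOver f (F.X i) x
        show Module.Flat _ ((F.X i).presheaf.stalk x)
        haveI : Subsingleton ((F.X i).presheaf.stalk x) := ‹_›
        infer_instance, ⟨Iso.refl _⟩⟩
  obtain ⟨b, hb, h⟩ := CohProperPush.exists_torAmplitude f F
    (fun i => QC.isQCoh_of_iso ((DerivedCategory.homologyFunctor _ i).mapIso eF.symm)
      (DCohShriek.isQCohD_inD (QC.isQCoh_unit X) i))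
    (fun x => (CohProperPush.torAmplitudeAt_iff (f := f) F x).2 (DQCoh.relAmpAt_of_rel hrel x))
  obtain ⟨E, hE, hflE, ⟨e⟩⟩ := KFlat.flatAmplitude_of_torAmplitude _ _ _ hb h
  exact ⟨b, E, hE, hflE, ⟨e ≪≫ (DCoh.Rpush f).mapIso eF⟩⟩

/-- **vanishing of `H^i(Rf_* a O)` for `i > 0`** -/
theorem isZero_hd_rpush_adjoint [CompactSpace Y] [QuasiSeparatedSpace Y] (hf : DCoh.RpushPreservesQCoh f)
    {a : DCoh.DQCoh Y ⥤ DCoh.DQCoh X} (adj : DCoh.RpushQ f hf ⊣ a) {O : DCoh.DQCoh Y}
    (hO : Nonempty (O.obj ≅ DCoh.inD Y (Coh.structureModule Y))) {i : ℤ} (hi : 0 < i) :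
    IsZero (DCoh.HD ((DCoh.RpushQ f hf).obj (a.obj O)).obj i) := by
  haveI : CompactSpace X := QuasiCompact.compactSpace_of_compactSpace f
  haveI : QuasiSeparatedSpace X := quasiSeparatedSpace_of_quasiSeparated f
  have hfin : DCohShriek.Fin' none f := fun P hP => Or.inl (isPerfect_rpush' f hP)
  refine KFlat.isZero_of_stalks _ fun y => ?_
  obtain ⟨V, hV, hyV, -⟩ := exists_isAffineOpen_mem_and_subset (show y ∈ (⊤ : Y.Opens) from trivial)
  let eV : Spec (CommRingCat.of Γ(Y, V)) ≅ (V : Scheme.{u}) := hV.isoSpec.symm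
  haveI : CompactSpace V := isCompact_iff_compactSpace.1 hV.isCompact
  haveI : QuasiSeparatedSpace V := quasiSeparatedSpace_of_quasiSeparated V.ι
  let g := f ∣_ V
  haveI : IsProper g := inferInstance
  haveI : DCoh.HasRpush g := DerPush.hasRpush_sch g
  haveI : DCoh.HasLpull g := KFlat.hasLpull g
  haveI : CompactSpace (f ⁻¹ᵁ V) := QuasiCompact.compactSpace_of_compactSpace g
  haveI : QuasiSeparatedSpace (f ⁻¹ᵁ V) := quasiSeparatedSpace_of_quasiSeparated g
  have hg : DCoh.RpushPreservesQCoh g := fun E hE => DQPush.isQCohD_rpush g hE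
  haveI := DCohShriek.isLeftAdjoint_rpushQ g hg
  let adjV := Adjunction.ofIsLeftAdjoint (DCoh.RpushQ g hg)
  let aV := (DCoh.RpushQ g hg).rightAdjoint
  haveI hθ := DCohShriek.isIso_thetaApp f adj V adjV hfin hV.isCompact O (fun c hc => (Option.not_mem_none c hc).elim)
  -- the statement on `V`
  let OV := DCoh.inD (V : Scheme.{u}) (Coh.structureModule (V : Scheme.{u}))
  obtain ⟨eu⟩ := DualSch.nonempty_restrict_unit (X := Y) V.ι
  let eOV : ((rdQ V.ι).obj O).obj ≅ OV := (RD V.ι).mapIso hO.some ≪≫ eu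
  let Z := (aV.obj ((rdQ V.ι).obj O))
  let GV := (DCoh.Rpush g).obj Z.obj
  -- maps out of `Rg_* O` vanish
  obtain ⟨b, hamp⟩ := exists_amp_rpush_unit g
  let OX := DCoh.inD ((f ⁻¹ᵁ V : X.Opens) : Scheme.{u}) (Coh.structureModule ((f ⁻¹ᵁ V : X.Opens) : Scheme.{u}))
  have h0 : Subsingleton ((DCoh.Rpush g).obj OX ⟶ OV⟦i⟧) := by
    have hamp' : DCoh.HasFlatAmplitudeIn 0 b ((RD eV.hom).obj ((DCoh.Rpush g).obj OX)) :=
      DQCoh.hasFlatAmplitudeIn_restrict eV.hom hamp
    haveI : Subsingleton ((rdEquiv eV).functor.obj ((DCoh.Rpush g).obj OX) ⟶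
        (DCoh.inD (Spec (CommRingCat.of Γ(Y, V))) (Coh.structureModule (Spec (CommRingCat.of Γ(Y, V)))))⟦i⟧) :=
      subsingleton_hom_spec (PerfGen.isPerfect_RD eV.hom (isPerfect_rpush' g
        (PerfPush.isPerfect_unit _))) hamp' hi
    obtain ⟨eu'⟩ := DualSch.nonempty_restrict_unit (X := (V : Scheme.{u})) eV.hom
    exact ((rdEquiv eV).fullyFaithfulFunctor.homEquiv.trans (Iso.homCongr (Iso.refl _)
      (((RD eV.hom).commShiftIso i).app OV ≪≫ (shiftFunctor _ i).mapIso eu'))).subsingleton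
  -- adjunctions
  have h1 : Subsingleton (OV ⟶ GV⟦i⟧) := by
    let Q : DCoh.DQCoh (V : Scheme.{u}) :=
      ⟨((rdQ V.ι).obj O).obj⟦i⟧, PerfGen.isQCohD_shift ((rdQ V.ι).obj O).property i⟩
    obtain ⟨es⟩ := DCohShriek.nonempty_adjoint_shift adjV ((rdQ V.ι).obj O) Q i (Iso.refl _)
    obtain ⟨adjP⟩ := DerPush.nonempty_lpull_adj_rpush g
    obtain ⟨eL⟩ := PerfPush.nonempty_lpull_unit (X := (V : Scheme.{u})) g
    haveI : Subsingleton (OX ⟶ (aV.obj Q).obj) := by
      haveI : Subsingleton ((DCoh.Rpush g).obj OX ⟶ Q.obj) :=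
        (Iso.homCongr (Iso.refl _) ((shiftFunctor _ i).mapIso eOV)).subsingleton
      exact (Equiv.ofBijective _ (DCohShriek.tr_bijective adjV
        (DCohShriek.isQCohD_inD (QC.isQCoh_unit _) : DCoh.IsQCohD OX) Q)).subsingleton
    exact ((Iso.homCongr (Iso.refl OV)
        (((DCohShriek.rpushShiftIso g i).app Z.obj).symm ≪≫ (DCoh.Rpush g).mapIso es.symm)).trans
      ((adjP.homEquiv OV (aV.obj Q).obj).symm.trans (Iso.homCongr eL (Iso.refl _)))).subsingleton
  -- read on the spectrum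
  have h2 : IsZero (DCoh.HD ((RD eV.hom).obj GV) i) := by
    refine isZero_hd_spec (PerfGen.isQCohD_RD eV.hom (hg _ Z.property)) ?_
    obtain ⟨eu'⟩ := DualSch.nonempty_restrict_unit (X := (V : Scheme.{u})) eV.hom
    exact ((Iso.homCongr eu'.symm (((RD eV.hom).commShiftIso i).app GV).symm).trans
      (rdEquiv eV).fullyFaithfulFunctor.homEquiv.symm).subsingleton
  let eG : (RD V.ι).obj ((DCoh.Rpush f).obj (a.obj O).obj) ≅ GV :=
    ((DQPush.rpushRestrIso f V).app (a.obj O).obj) ≪≫ (DCoh.Rpush g).mapIso (@asIso _ _ _ _ _ hθ)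
  have h3 : IsZero ((Scheme.Modules.restrictFunctor eV.hom).obj
      ((Scheme.Modules.restrictFunctor V.ι).obj (DCoh.HD ((DCoh.Rpush f).obj (a.obj O).obj) i))) :=
    h2.of_iso (((Scheme.Modules.restrictFunctor eV.hom).mapIso ((PerfGen.hdRD V.ι _ i).symm ≪≫
      (DerivedCategory.homologyFunctor _ i).mapIso eG)) ≪≫ (PerfGen.hdRD eV.hom GV i).symm)
  by_contra hne
  obtain ⟨z, hz⟩ : ∃ z, eV.hom z = (⟨y, hyV⟩ : (V : Scheme.{u})) :=
    ⟨eV.inv ⟨y, hyV⟩, by rw [← Scheme.Hom.comp_apply, eV.inv_hom_id]; rfl⟩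
  have : z ∈ CohB1.support ((Scheme.Modules.restrictFunctor eV.hom).obj
      ((Scheme.Modules.restrictFunctor V.ι).obj (DCoh.HD ((DCoh.Rpush f).obj (a.obj O).obj) i))) := by
    rw [PerfGen.support_restrict, PerfGen.support_restrict]
    simp only [Set.mem_preimage, hz]
    exact fun hs => hne (@ModuleCat.isZero_of_subsingleton _ _ _ hs)
  exact this (ModuleCat.subsingleton_of_isZero ((DerSch.stalkFunctor _ z).map_isZero h3))

end

end Groth.Agent.ShriekAffine
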