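import Groth.Agent.ShriekAffine.Main
import Groth.Agent.DualSch.SelfDual
import Groth.Agent.DualSch.Chart
import Groth.Agent.DRingKP.Derive
import Groth.Agent.LocalDimBC.Smooth
import Groth.Prelude.Def_Dual3

/-!
Reading `f^! O` in affine charts.
-/

set_option autoImplicit false
set_option backward.isDefEq.respectTransparency false
set_option backward.isDefEq.respectTransparency.types false
set_option linter.style.haveILetI false
set_option linter.unusedSectionVars false
set_option maxHeartbeats 1600000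

universe u

open CategoryTheory Limits AlgebraicGeometry

attribute [local instance] HasDerivedCategory.standard

namespace Groth.Agent.ShriekAffine

open Groth.Agent.DQCoh (RD rdComp rdCongr)
open Groth.Agent.PerfGen Groth.Agent.DCohShriek

/-- support of `N~` -/
theorem mem_support_tilde {A : CommRingCat.{u}} (N : ModuleCat.{u} A) (q : PrimeSpectrum A) :
    q ∈ CohB1.support (tilde N) ↔ Nontrivial (LocalizedModule q.asIdeal.primeCompl N) := by
  have e := IsLocalizedModule.iso q.asIdeal.primeCompl (tilde.toStalk N q).hom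
  exact not_subsingleton_iff_nontrivial.trans e.toEquiv.symm.nontrivial_congr

/-- an adjoint of restriction of scalars along any ring map -/
theorem exists_adjoint {P A : Type u} [CommRing P] [CommRing A] (φ : P →+* A) :
    ∃ R : Dual.D P ⥤ Dual.D A, Nonempty (DRing.restrictD φ ⊣ R) := by
  let s := Spec.map (CommRingCat.ofHom φ)
  haveI : DCoh.HasRpush s := DerPush.hasRpush_sch s
  have hs : DCoh.RpushPreservesQCoh s := fun E hE => DQPush.isQCohD_rpush s hE
  haveI := isLeftAdjoint_rpushQ s hs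
  exact ⟨_, ⟨restrictDAdjunction φ (Adjunction.ofIsLeftAdjoint (DCoh.RpushQ s hs))⟩⟩

variable {X Y : Scheme.{u}}

/-- affine charts with a presentation -/
theorem exists_chart [IsLocallyNoetherian X] [IsLocallyNoetherian Y] (f : X ⟶ Y) [LocallyOfFiniteType f] (x : X)
    {W : X.Opens} (hxW : x ∈ W) :
    ∃ (R A : Type u) (_ : CommRing R) (_ : CommRing A) (_ : IsNoetherianRing R) (_ : IsNoetherianRing A)
      (_ : Algebra R A) (n : ℕ) (ψ : MvPolynomial (Fin n) R →ₐ[R] A) (v : Spec (CommRingCat.of R) ⟶ Y)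
      (_ : IsOpenImmersion v) (w : Spec (CommRingCat.of A) ⟶ X) (_ : IsOpenImmersion w) (q : PrimeSpectrum A),
      Function.Surjective ψ ∧ w q = x ∧ Set.range w ⊆ W ∧
        Spec.map (CommRingCat.ofHom (algebraMap R A)) ≫ v = w ≫ f ∧ (Flat f → Module.Flat R A) := by
  obtain ⟨V, hV, hxV, -⟩ := exists_isAffineOpen_mem_and_subset (show f x ∈ (⊤ : Y.Opens) from trivial)
  obtain ⟨U, hU, hxU, hUV⟩ := exists_isAffineOpen_mem_and_subset (show x ∈ W ⊓ f ⁻¹ᵁ V from ⟨hxW, hxV⟩)
  have e : U ≤ f ⁻¹ᵁ V := fun y hy => (hUV hy).2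
  haveI : IsNoetherianRing Γ(Y, V) := IsLocallyNoetherian.component_noetherian ⟨V, hV⟩
  haveI : IsNoetherianRing Γ(X, U) := IsLocallyNoetherian.component_noetherian ⟨U, hU⟩
  letI := (f.appLE V U e).hom.toAlgebra
  haveI : Algebra.FiniteType Γ(Y, V) Γ(X, U) := f.finiteType_appLE hV hU e
  obtain ⟨n, ψ, hψ⟩ := Algebra.FiniteType.iff_quotient_mvPolynomial''.1
    (show Algebra.FiniteType Γ(Y, V) Γ(X, U) from ‹_›)
  refine ⟨Γ(Y, V), Γ(X, U), inferInstance, inferInstance, inferInstance, inferInstance, inferInstance, n, ψ,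
    hV.fromSpec, inferInstance, hU.fromSpec, inferInstance, hU.primeIdealOf ⟨x, hxU⟩, hψ,
    hU.fromSpec_primeIdealOf ⟨x, hxU⟩, ?_, hV.SpecMap_appLE_fromSpec f hU e, fun _ => Flat.flat_appLE f hV hU e⟩
  exact hU.range_fromSpec.trans_subset fun y hy => (hUV hy).1

section Read

variable [IsNoetherian X] [IsNoetherian Y] {f : X ⟶ Y} (c : DEt.Compactification f) [DCoh.HasRpush c.fbar]
  {hc : DCoh.RpushPreservesQCoh c.fbar} {a : DCoh.DQCoh Y ⥤ DCoh.DQCoh c.Xbar}
  (adj : DCoh.RpushQ c.fbar hc ⊣ a) {O : DCoh.DQCoh Y} (hO : Nonempty (O.obj ≅ DCoh.inD Y (Coh.structureModule Y)))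
  {R A : Type u} [CommRing R] [CommRing A] [IsNoetherianRing R] [IsNoetherianRing A] [Algebra R A]
  {n : ℕ} {ψ : MvPolynomial (Fin n) R →ₐ[R] A} (hψ : Function.Surjective ψ)
  [DRing.HasLBaseChange (algebraMap R (MvPolynomial (Fin n) R))]
  {Rψ : Dual.D (MvPolynomial (Fin n) R) ⥤ Dual.D A} (adjψ : DRing.restrictD ψ.toRingHom ⊣ Rψ)
  (v : Spec (CommRingCat.of R) ⟶ Y) [IsOpenImmersion v] (w : Spec (CommRingCat.of A) ⟶ X) [IsOpenImmersion w]
  (hw : Spec.map (CommRingCat.ofHom (algebraMap R A)) ≫ v = w ≫ f)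

/-- `O` is bounded below -/
theorem isBdd_unit (hO : Nonempty (O.obj ≅ DCoh.inD Y (Coh.structureModule Y))) : Dual3.IsBddBelowQ Y O := by
  obtain ⟨eO⟩ := hO
  exact ⟨0, (DerivedCategory.isGE_iff _ _).2 fun i hi => ((DerivedCategory.isGE_iff (DCoh.inD Y _) 0).1
      (inferInstanceAs (((DerivedCategory.singleFunctor Y.Modules 0).obj _).IsGE 0)) i hi).of_iso
        ((DerivedCategory.homologyFunctor _ i).mapIso eO)⟩

include adj hO hψ adjψ hw

/-- **`f^! O` on a chart is `ω_{A/R}`** -/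
theorem nonempty_shriek_unit :
    Nonempty ((RD w).obj ((RD c.j).obj (a.obj O).obj) ≅
      (DCoh.tildeD (CommRingCat.of A)).obj (Dual2.shriekVia n Rψ (Dual.inD R R))) := by
  obtain ⟨e₀⟩ := DualSch.nonempty_restrict_structureModule (X := Y) (A := R) v
  exact nonempty_shriek_chart c adj n ψ hψ adjψ v w hw ⟨O, isBdd_unit hO⟩ _ ((RD v).mapIso hO.some ≪≫ e₀)

/-- **stalks of `H^i(f^! O)`** -/
theorem nontrivial_stalk_iff (i : ℤ) (q : PrimeSpectrum A) :
    Nontrivial ((DCoh.HD ((RD c.j).obj (a.obj O).obj) i).presheaf.stalk (w q)) ↔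
      Nontrivial (LocalizedModule q.asIdeal.primeCompl (Dual.HD A (Dual2.shriekVia n Rψ (Dual.inD R R)) i)) := by
  obtain ⟨e⟩ := nonempty_shriek_unit c adj hO hψ adjψ v w hw
  obtain ⟨eH⟩ := DualSch.nonempty_restrict_HD w e i
  refine Iff.trans ?_ (mem_support_tilde (A := CommRingCat.of A)
    ((DerivedCategory.homologyFunctor (ModuleCat.{u} A) i).obj (Dual2.shriekVia n Rψ (Dual.inD R R))) q)
  have h : CohB1.support (tilde (R := CommRingCat.of A)
      ((DerivedCategory.homologyFunctor (ModuleCat.{u} A) i).obj (Dual2.shriekVia n Rψ (Dual.inD R R)))) =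
      w.base ⁻¹' CohB1.support (DCoh.HD ((RD c.j).obj (a.obj O).obj) i) :=
    (support_eq_of_iso eH.symm).trans (support_restrict w _)
  rw [h]
  exact not_subsingleton_iff_nontrivial.symm

/-- local dimension of the fibres in a chart -/
theorem fibreDimAt_chart (q : PrimeSpectrum A) :
    FlatMor.fibreDimAt (Spec.map (CommRingCat.ofHom (algebraMap R A))) q = FlatMor.fibreDimAt f (w q) := by
  rw [LocalDimBC.fibreDimAt_comp_openImmersion _ v, hw, LocalDimBC.fibreDimAt_openImmersion_comp]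

end Read

end Groth.Agent.ShriekAffine
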