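import Groth.Agent.ShriekAffine.PerfectRing
import Groth.Agent.ShriekAffine.Chart
import Groth.Agent.DCohShriek.CoherentMain
import Groth.Agent.DCohShriek.HomFinite
import Groth.Agent.RigidD.Main
import Groth.Agent.PCMor.Scheme

/-!
`f^!` for perfect `f`: bounded coherent objects and rigidity of `f^! O`.
-/

set_option autoImplicit false
set_option backward.isDefEq.respectTransparency false
set_option backward.isDefEq.respectTransparency.types false
set_option linter.style.haveILetI false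
set_option linter.unusedSectionVars false
set_option maxHeartbeats 1600000

universe u

open CategoryTheory Limits AlgebraicGeometry

attribute [local instance] HasDerivedCategory.standard

namespace Groth.Agent.ShriekAffine

open Groth.Agent.DQCoh (RD rdComp rdCongr hdTildeIso)
open Groth.Agent.PerfGen

variable {X Y : Scheme.{u}}

/-- affine charts of a perfect morphism -/
theorem exists_chart_perfect [IsLocallyNoetherian X] [IsLocallyNoetherian Y] (f : X ⟶ Y) [LocallyOfFiniteType f]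
    (hf : MoreMor.IsPerfectMor f) (x : X) {W : X.Opens} (hxW : x ∈ W) :
    ∃ (R A : Type u) (_ : CommRing R) (_ : CommRing A) (_ : IsNoetherianRing R) (_ : IsNoetherianRing A)
      (_ : Algebra R A) (n : ℕ) (ψ : MvPolynomial (Fin n) R →ₐ[R] A) (v : Spec (CommRingCat.of R) ⟶ Y)
      (_ : IsOpenImmersion v) (w : Spec (CommRingCat.of A) ⟶ X) (_ : IsOpenImmersion w),
      Function.Surjective ψ ∧ x ∈ Set.range w ∧ Set.range w ⊆ W ∧
        Spec.map (CommRingCat.ofHom (algebraMap R A)) ≫ v = w ≫ f ∧ PCMor.Pf (algebraMap R A) := by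
  obtain ⟨V, hV, hxV, -⟩ := exists_isAffineOpen_mem_and_subset (show f x ∈ (⊤ : Y.Opens) from trivial)
  obtain ⟨U, hU, hxU, hUV⟩ := exists_isAffineOpen_mem_and_subset (show x ∈ W ⊓ f ⁻¹ᵁ V from ⟨hxW, hxV⟩)
  have e : U ≤ f ⁻¹ᵁ V := fun y hy => (hUV hy).2
  haveI : IsNoetherianRing Γ(Y, V) := IsLocallyNoetherian.component_noetherian ⟨V, hV⟩
  haveI : IsNoetherianRing Γ(X, U) := IsLocallyNoetherian.component_noetherian ⟨U, hU⟩
  have hp := hf U V hU hV e
  letI := (f.appLE V U e).hom.toAlgebra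
  haveI : Algebra.FiniteType Γ(Y, V) Γ(X, U) := f.finiteType_appLE hV hU e
  obtain ⟨n, ψ, hψ⟩ := Algebra.FiniteType.iff_quotient_mvPolynomial''.1
    (show Algebra.FiniteType Γ(Y, V) Γ(X, U) from ‹_›)
  refine ⟨Γ(Y, V), Γ(X, U), inferInstance, inferInstance, inferInstance, inferInstance, inferInstance, n, ψ,
    hV.fromSpec, inferInstance, hU.fromSpec, inferInstance, hψ,
    hU.range_fromSpec.symm ▸ hxU, ?_, hV.SpecMap_appLE_fromSpec f hU e, hp⟩
  exact hU.range_fromSpec.trans_subset fun y hy => (hUV hy).1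

variable [IsNoetherian X] [IsNoetherian Y] {f : X ⟶ Y} [LocallyOfFiniteType f] (hf : MoreMor.IsPerfectMor f)
  (c : DEt.Compactification f) [DCoh.HasRpush c.fbar]
  {hc : DCoh.RpushPreservesQCoh c.fbar} {a : DCoh.DQCoh Y ⥤ DCoh.DQCoh c.Xbar}
  (adj : DCoh.RpushQ c.fbar hc ⊣ a)

include hf adj

theorem rigidNear_of_perfect {O : DCoh.DQCoh Y} (hO : Nonempty (O.obj ≅ DCoh.inD Y (Coh.structureModule Y)))
    (x : X) (W : X.Opens) (hx : x ∈ W) : RigidD.RigidNear ((RD c.j).obj (a.obj O).obj) x W := by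
  haveI := fun (S T : Type u) [CommRing S] [CommRing T] (φ : S →+* T) => DRingKP.hasLBaseChange φ
  obtain ⟨R, A, _, _, _, _, _, n, ψ, v, hv, w, hwo, hψ, hxw, hW, hw, hp⟩ := exists_chart_perfect f hf x hx
  obtain ⟨Rψ, ⟨adjψ⟩⟩ := exists_adjoint ψ.toRingHom
  obtain ⟨h0, h1⟩ := rigid_of_pf hψ hp adjψ
  exact ⟨A, _, w, hwo, _, hxw, hW, nonempty_shriek_unit c adj hO hψ adjψ v w hw, h0, h1⟩

theorem bounded_coh (K : DCoh.DQCoh Y) (lo hi : ℤ)
    (hb : ∀ i : ℤ, (i < lo ∨ hi < i) → IsZero (DCoh.HD K.obj i)) (hK : ∀ i : ℤ, Coh.IsCoh (DCoh.HD K.obj i)) :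
    (∃ lo' hi' : ℤ, ∀ i : ℤ, (i < lo' ∨ hi' < i) → IsZero (DCoh.HD ((RD c.j).obj (a.obj K).obj) i)) ∧
      ∀ i : ℤ, Coh.IsCoh (DCoh.HD ((RD c.j).obj (a.obj K).obj) i) := by
  classical
  haveI := fun (S T : Type u) [CommRing S] [CommRing T] (φ : S →+* T) => DRingKP.hasLBaseChange φ
  let F := (RD c.j).obj (a.obj K).obj
  have key : ∀ x : X, ∃ (T : Scheme.{u}) (w : T ⟶ X) (_ : IsOpenImmersion w) (lo' hi' : ℤ),
      x ∈ Set.range w ∧ (∀ i, Coh.IsCoh (DCoh.HD ((RD w).obj F) i)) ∧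
      ∀ i : ℤ, (i < lo' ∨ hi' < i) → IsZero (DCoh.HD ((RD w).obj F) i) := fun x => by
    obtain ⟨R, A, _, _, _, _, _, n, ψ, v, hv, w, hwo, hψ, hxw, -, hw, hp⟩ :=
      exists_chart_perfect f hf x (W := ⊤) trivial
    haveI : PreservesFiniteLimits (tilde.functor (CommRingCat.of A)) := QC.tilde_preservesFiniteLimits
    haveI : PreservesFiniteLimits (tilde.functor (CommRingCat.of R)) := QC.tilde_preservesFiniteLimits
    obtain ⟨M, ⟨eM⟩⟩ := ((DQCoh.tildeD_affine (R := CommRingCat.of R)).2.2 _).1 (isQCohD_RD v K.property)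
    let eHR : ∀ i, DCoh.HD ((RD v).obj K.obj) i ≅
        tilde (R := CommRingCat.of R) ((DerivedCategory.homologyFunctor (ModuleCat.{u} R) i).obj M) := fun i =>
      (DerivedCategory.homologyFunctor _ i).mapIso eM.symm ≪≫ hdTildeIso (R := CommRingCat.of R) M i
    have hMfin : ∀ i : ℤ, Module.Finite R (Dual.HD R M i) := fun i =>
      (H4Easy.isFT_tilde_iff (CommRingCat.of R) _).1
        (QC.isFT_of_epi (eHR i).hom (DCohShriek.coh_RD v i (hK i)).2)
    have hMb : ∀ i : ℤ, (i < lo ∨ hi < i) → Subsingleton (Dual.HD R M i) := fun i h => by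
      have h1 : IsZero (DCoh.HD ((RD v).obj K.obj) i) :=
        ((Scheme.Modules.restrictFunctor v).map_isZero (hb i h)).of_iso (hdRD v K.obj i)
      have h2 : IsZero ((tilde.functor (CommRingCat.of R)).obj
          ((DerivedCategory.homologyFunctor (ModuleCat.{u} R) i).obj M)) := h1.of_iso (eHR i).symm
      rw [IsZero.iff_id_eq_zero] at h2
      exact ModuleCat.subsingleton_of_isZero ((IsZero.iff_id_eq_zero _).2
        ((tilde.functor (CommRingCat.of R)).map_injective (by rw [CategoryTheory.Functor.map_id, h2, Functor.map_zero])))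
    have hbdd : Dual3.IsBddBelowQ Y K :=
      ⟨lo, (DerivedCategory.isGE_iff _ _).2 fun i hi => hb i (Or.inl hi)⟩
    obtain ⟨Rψ, ⟨adjψ⟩⟩ := exists_adjoint ψ.toRingHom
    obtain ⟨e⟩ := nonempty_shriek_chart c adj n ψ hψ adjψ v w hw ⟨K, hbdd⟩ M eM.symm
    obtain ⟨⟨lo', hi', hz⟩, hfin⟩ := shriekVia_bounded hψ hp adjψ hMb hMfin
    let eHA : ∀ i, DCoh.HD ((RD w).obj F) i ≅ tilde (R := CommRingCat.of A)
        ((DerivedCategory.homologyFunctor (ModuleCat.{u} A) i).obj (Dual2.shriekVia n Rψ M)) := fun i =>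
      (DerivedCategory.homologyFunctor _ i).mapIso e ≪≫ hdTildeIso (R := CommRingCat.of A) _ i
    refine ⟨_, w, hwo, lo', hi', hxw, fun i => ?_, fun i h => ?_⟩
    · haveI := hfin i
      exact DCohShriek.isCoh_iso (eHA i).symm ⟨QC.isQCoh_tilde (R := CommRingCat.of A) _,
        (H4Easy.isFT_tilde_iff (CommRingCat.of A) _).2 ‹_›⟩
    · haveI := hz i h
      exact ((tilde.functor (CommRingCat.of A)).map_isZero (@ModuleCat.isZero_of_subsingleton _ _ _ ‹_›)).of_iso
        (eHA i)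
  choose T w hwo lo' hi' hxw hcoh hzero using key
  obtain ⟨t, ht⟩ := isCompact_univ.elim_finite_subcover (fun x : X => Set.range (w x))
    (fun x => haveI := hwo x; (w x).isOpenEmbedding.isOpen_range) (fun x _ => Set.mem_iUnion.2 ⟨x, hxw x⟩)
  obtain ⟨l₀, hl₀⟩ := (t.image lo').bddBelow
  obtain ⟨h₀, hh₀⟩ := (t.image hi').bddAbove
  refine ⟨⟨l₀, h₀, fun i h => KFlat.isZero_of_stalks _ fun y => ?_⟩, fun i =>
    DCohShriek.coh_of_cover i fun x => ⟨T x, w x, hwo x, hxw x, hcoh x i⟩⟩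
  obtain ⟨x, hxt, z, rfl⟩ := Set.mem_iUnion₂.1 (ht (Set.mem_univ y))
  haveI := hwo x
  have hl := hl₀ (Finset.mem_image_of_mem lo' hxt)
  have hh := hh₀ (Finset.mem_image_of_mem hi' hxt)
  have hz := ((hzero x i (by omega)).of_iso (hdRD (w x) F i).symm)
  by_contra hne
  have : z ∈ CohB1.support ((Scheme.Modules.restrictFunctor (w x)).obj (DCoh.HD F i)) := by
    rw [support_restrict]
    exact fun hs => hne (@ModuleCat.isZero_of_subsingleton _ _ _ hs)
  exact this (ModuleCat.subsingleton_of_isZero ((DerSch.stalkFunctor (T x) z).map_isZero hz))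

end Groth.Agent.ShriekAffine
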