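import Groth.Agent.ShriekAffine.CMRing
import Groth.Agent.ShriekAffine.Perfect
import Groth.Agent.HilbFib.Affine
import Groth.Agent.FlatLimMod.Basic
import Groth.Agent.RelPerfAffine.Main
import Groth.Agent.CMChart.Scheme

/-!
`f^! O` of a Cohen–Macaulay morphism of relative dimension `d`.
-/

set_option autoImplicit false
set_option backward.isDefEq.respectTransparency false
set_option backward.isDefEq.respectTransparency.types false
set_option linter.style.haveILetI false
set_option linter.unusedSectionVars false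
set_option maxHeartbeats 1600000

universe u

open CategoryTheory Limits AlgebraicGeometry

attribute [local instance] HasDerivedCategory.standard

namespace Groth.Agent.ShriekAffine

open Groth.Agent.DQCoh (RD)
open Groth.Agent.PerfGen (hdRD)

/-- fibre dimension from equidimensional fibres -/
theorem fibreDimAt_of_equidim {X Y : Scheme.{u}} (f : X ⟶ Y) [LocallyOfFiniteType f] (d : ℕ)
    (hd : ∀ (y : Y) (Z : Set ↥(f.fiber y)), Z ∈ irreducibleComponents ↥(f.fiber y) →
      topologicalKrullDim ↥Z = (d : WithBot ℕ∞)) (x : X) :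
    FlatMor.fibreDimAt f x = (d : WithBot ℕ∞) := by
  let T := f.fiber (f x)
  let q : T ⟶ Spec (CommRingCat.of (Y.residueField (f x))) := f.fiberToSpecResidueField (f x)
  haveI : LocallyOfFiniteType q := MorphismProperty.pullback_snd (P := @LocallyOfFiniteType) _ _ ‹_›
  have hsub : ∀ a b : T, q a = q b := fun a b =>
    Subsingleton.elim (α := PrimeSpectrum (Y.residueField (f x))) _ _
  obtain ⟨b, δ, -, hD, -, -, -, m, -, hmz, hmax, -, hch⟩ := DimFormula.exists_fibre_dims q (f.asFiber x)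
  have hm : Unibranch.IsMaxPt m := fun w hw => hmax w (hsub w m) hw
  have hdim := hd _ _ hm.mem_irreducibleComponents
  show FlatMor.localDim T (f.asFiber x) = _
  rw [CMChart.fibreDimAt_eq_localDim] at hD
  rw [hD]
  refine le_antisymm ?_ ?_
  · haveI : QuasiSober (closure ({m} : Set T)) := isClosed_closure.isClosedEmbedding_subtypeVal.quasiSober
    rw [← hdim]
    exact (Unibranch.natCast_le_topologicalKrullDim_iff q Topology.IsEmbedding.subtypeVal (by
      rw [Subtype.range_coe, Set.inter_eq_left.mpr]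
      exact fun w _ => hsub w _)).2 hch
  · rw [← hdim, LocalDimBC.topologicalKrullDim_closure_eq q m hm, ← hD]
    refine le_iInf fun U => ?_
    exact iInf_le_of_le ⟨U.1, hmz.mem_open U.1.isOpen U.2⟩ le_rfl

/-- Cohen–Macaulayness is not affected by an open immersion of the base -/
theorem isCMAt_of_comp_openImmersion {U V Y : Scheme.{u}} (g : U ⟶ V) (v : V ⟶ Y) [IsOpenImmersion v] (z : U)
    [IsLocallyNoetherian ((g ≫ v).fiber (v (g z)))] (h : MoreMor.IsCMAt (g ≫ v) z) : MoreMor.IsCMAt g z := by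
  have sq : IsPullback (𝟙 U) g (g ≫ v) v :=
    ⟨⟨by simp⟩, ⟨PullbackCone.IsLimit.mk _ (fun s => s.fst) (fun s => Category.comp_id _)
      (fun s => (cancel_mono v).1 ((Category.assoc _ _ _).trans s.condition))
      fun s m h1 _ => (Category.comp_id m).symm.trans h1⟩⟩
  exact CMFlat.isCMAt_baseChange sq z (Or.inl inferInstance) h

variable {X Y : Scheme.{u}} [IsNoetherian X] [IsNoetherian Y] {f : X ⟶ Y} [LocallyOfFiniteType f]
  (c : DEt.Compactification f) [DCoh.HasRpush c.fbar]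
  {hc : DCoh.RpushPreservesQCoh c.fbar} {a : DCoh.DQCoh Y ⥤ DCoh.DQCoh c.Xbar}
  (adj : DCoh.RpushQ c.fbar hc ⊣ a) {O : DCoh.DQCoh Y} (hO : Nonempty (O.obj ≅ DCoh.inD Y (Coh.structureModule Y)))
  [∀ (U V : Scheme.{u}) (j : U ⟶ V) [IsOpenImmersion j], PreservesFiniteLimits (Scheme.Modules.restrictFunctor j)]

include adj hO

/-- **a chart of a Cohen–Macaulay morphism** -/
theorem exists_cm_chart (x : X) {W : X.Opens} (hxW : x ∈ W) (hCM : ∀ z ∈ W, MoreMor.IsCMAt f z) (d : ℕ)
    (hd : ∀ z ∈ W, FlatMor.fibreDimAt f z = (d : WithBot ℕ∞)) :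
    ∃ (T : Scheme.{u}) (w : T ⟶ X) (_ : IsOpenImmersion w), x ∈ Set.range w ∧ Set.range w ⊆ W ∧
      (∀ i : ℤ, i ≠ -(d : ℤ) →
        IsZero ((Scheme.Modules.restrictFunctor w).obj (DCoh.HD ((RD c.j).obj (a.obj O).obj) i))) ∧
      (∀ i : ℤ, Coh.IsCoh (DCoh.HD ((RD w).obj ((RD c.j).obj (a.obj O).obj)) i)) ∧
      ∀ z : T, FlatMod.IsFlatOverAt f (DCoh.HD ((RD c.j).obj (a.obj O).obj) (-(d : ℤ))) (w z) := by
  haveI := fun (S T : Type u) [CommRing S] [CommRing T] (φ : S →+* T) => DRingKP.hasLBaseChange φ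
  obtain ⟨R, A, _, _, _, _, _, n, ψ, v, hv, w, hwo, q₀, hψ, hq₀, hW, hw, -⟩ := exists_chart f x (W := W) hxW
  haveI : Algebra.FiniteType R A := Algebra.FiniteType.of_surjective ψ hψ
  let g := Spec.map (CommRingCat.ofHom (algebraMap R A))
  haveI : LocallyOfFiniteType g :=
    (HasRingHomProperty.Spec_iff (P := @LocallyOfFiniteType)).mpr (RingHom.finiteType_algebraMap.mpr inferInstance)
  have hCM' : ∀ z : PrimeSpectrum A, MoreMor.IsCMAt g z := fun z => by
    haveI := GrpdSlice.isLocallyNoetherian_fiber (g ≫ v) (v (g z))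
    refine isCMAt_of_comp_openImmersion g v z ?_
    rw [hw]
    exact (CMChart.isCMAt_openImmersion_iff w f z).2 (hCM _ (hW ⟨z, rfl⟩))
  have hd' : ∀ z : PrimeSpectrum A, FlatMor.fibreDimAt g z = (d : WithBot ℕ∞) := fun z => by
    rw [LocalDimBC.fibreDimAt_comp_openImmersion _ v, hw, LocalDimBC.fibreDimAt_openImmersion_comp]
    exact hd _ (hW ⟨z, rfl⟩)
  haveI : Flat g := (Flat.iff_flat_stalkMap g).2 fun z => (hCM' z).1
  haveI : Module.Flat R A := RingHom.flat_algebraMap_iff.1 ((HasRingHomProperty.Spec_iff (P := @Flat)).1 ‹_›)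
  obtain ⟨Rψ, ⟨adjψ⟩⟩ := exists_adjoint ψ.toRingHom
  haveI : PreservesFiniteLimits (tilde.functor (CommRingCat.of A)) := QC.tilde_preservesFiniteLimits
  obtain ⟨eω⟩ := nonempty_shriek_unit c adj hO hψ adjψ v w hw
  obtain ⟨-, hfin, -⟩ := S1801.result R A n ψ hψ Rψ adjψ
  let F := (RD c.j).obj (a.obj O).obj
  have eH : ∀ i, Nonempty ((Scheme.Modules.restrictFunctor w).obj (DCoh.HD F i) ≅
      tilde (R := CommRingCat.of A)
        ((DerivedCategory.homologyFunctor (ModuleCat.{u} A) i).obj (Dual2.shriekVia n Rψ (Dual.inD R R)))) :=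
    fun i => DualSch.nonempty_restrict_HD w eω i
  have hcoh : ∀ i, Coh.IsCoh (DCoh.HD ((RD w).obj F) i) := fun i => by
    haveI := hfin i
    exact DCohShriek.isCoh_iso (((eH i).some).symm ≪≫ (hdRD w F i).symm)
      ⟨QC.isQCoh_tilde (R := CommRingCat.of A) _, (H4Easy.isFT_tilde_iff (CommRingCat.of A) _).2 ‹_›⟩
  refine ⟨_, w, hwo, ⟨q₀, hq₀⟩, hW, fun i hi => ?_, hcoh, fun z => ?_⟩
  · haveI := subsingleton_hd_of_cm hψ adjψ hCM' hd' hi
    exact ((tilde.functor (CommRingCat.of A)).map_isZero (ModuleCat.isZero_of_subsingleton _)).of_iso (eH i).some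
  · have h1 : FlatMod.IsFlatOverAt (g ≫ v) ((Scheme.Modules.pullback w).obj (DCoh.HD F (-(d : ℤ)))) z :=
      FlatLimMod.isFlatOverAt_of_iso _ ((eH _).some.symm ≪≫ (Scheme.Modules.restrictFunctorIsoPullback w).app _)
        (HilbFib.isFlatOverAt_comp_openImmersion g v _ z
          ((RelPerfAffine.flatOver_tilde_iff R A _).2 (flat_hd_of_cm hψ adjψ hCM' hd') z))
    rw [hw] at h1
    have hq : Coh.IsQCoh (DCoh.HD F (-(d : ℤ))) := (PerfGen.isQCohD_RD c.j (a.obj O).property) _
    exact (S9350.result w f _ hq z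
      (RingHom.Flat.of_bijective (ConcreteCategory.bijective_of_isIso (w.stalkMap z)))).2 h1

/-- **`f^! O = ω[d]`** -/
theorem shriek_cm (hCM : ∀ x : X, MoreMor.IsCMAt f x) (d : ℕ)
    (hd : ∀ x : X, FlatMor.fibreDimAt f x = (d : WithBot ℕ∞)) :
    (∀ i : ℤ, i ≠ -(d : ℤ) → IsZero (DCoh.HD ((RD c.j).obj (a.obj O).obj) i)) ∧
      Coh.IsCoh (DCoh.HD ((RD c.j).obj (a.obj O).obj) (-(d : ℤ))) ∧
      FlatMod.IsFlatOver f (DCoh.HD ((RD c.j).obj (a.obj O).obj) (-(d : ℤ))) := by
  let F := (RD c.j).obj (a.obj O).obj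
  have key := fun x : X => exists_cm_chart c adj hO x (W := ⊤) trivial (fun z _ => hCM z) d (fun z _ => hd z)
  refine ⟨fun i hi => KFlat.isZero_of_stalks _ fun x => ?_, DCohShriek.coh_of_cover _ fun x => ?_, fun x => ?_⟩
  · obtain ⟨T, w, hwo, ⟨z, rfl⟩, -, hz, -, -⟩ := key x
    by_contra hne
    have : z ∈ CohB1.support ((Scheme.Modules.restrictFunctor w).obj (DCoh.HD F i)) := by
      rw [Groth.Agent.PerfGen.support_restrict]
      exact fun hs => hne (@ModuleCat.isZero_of_subsingleton _ _ _ hs)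
    exact this (ModuleCat.subsingleton_of_isZero ((DerSch.stalkFunctor T z).map_isZero (hz i hi)))
  · obtain ⟨T, w, hwo, hx, -, -, hcoh, -⟩ := key x
    exact ⟨T, w, hwo, hx, hcoh _⟩
  · obtain ⟨T, w, hwo, ⟨z, rfl⟩, -, -, -, hfl⟩ := key x
    exact hfl z

end Groth.Agent.ShriekAffine
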