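import Groth.Agent.ShriekAffine.FlatSingle
import Groth.Agent.Shriek.SelfProps
import Groth.Agent.Shriek.FlatBound
import Groth.Agent.DualCx.Apps
import Groth.Agent.DRingKP.Amp
import Groth.Agent.DRingKP.BC
import Groth.Agent.DRingKP.Nilp
import Groth.Agent.CMChart.Pieces
import Groth.Agent.S1801

/-!
If `φ^! R` of a flat map is in one degree then the fibres are Cohen–Macaulay.
-/

set_option autoImplicit false
set_option backward.isDefEq.respectTransparency false
set_option backward.isDefEq.respectTransparency.types false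
set_option linter.style.haveILetI false
set_option linter.unusedSectionVars false
set_option maxHeartbeats 1600000

universe u

open CategoryTheory Limits AlgebraicGeometry
open scoped TensorProduct

attribute [local instance] HasDerivedCategory.standard

namespace Groth.Agent.ShriekAffine

noncomputable section

variable {R A : Type u} [CommRing R] [CommRing A] [Algebra R A] (k : Type u) [CommRing k] [Algebra R k]

/-- the map to the fibre -/
abbrev inclF (R A k : Type u) [CommRing R] [CommRing A] [Algebra R A] [CommRing k] [Algebra R k] : A →+* k ⊗[R] A :=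
  (Algebra.TensorProduct.includeRight : A →ₐ[R] k ⊗[R] A).toRingHom

/-- a semilinear additive bijection, as an equivalence of the restricted object -/
def semiEquiv {X : ModuleCat.{u} A} {Y : Type u} [AddCommGroup Y] [Module R Y]
    {Z : Type u} [AddCommGroup Z] [Module A Z] [Module A Y] [Module (k ⊗[R] A) Z]
    (e : Z ≃ₗ[A] Y) (h : ∀ (r : R) (z : Z), e (algebraMap R (k ⊗[R] A) r • z) = r • e z) :
    (ModuleCat.restrictScalars.{u} (algebraMap R (k ⊗[R] A))).obj (ModuleCat.of (k ⊗[R] A) Z) ≃ₗ[R] Y where
  toFun z := e z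
  map_add' := map_add e
  map_smul' := h
  invFun z := e.symm z
  left_inv := e.symm_apply_apply
  right_inv := e.apply_symm_apply

/-- base change to a fibre, as tensor over the base -/
def fibreExtIso : ModuleCat.extendScalars.{u, u, u} (inclF R A k) ⋙
      ModuleCat.restrictScalars.{u} (algebraMap R (k ⊗[R] A)) ≅
    ModuleCat.restrictScalars.{u} (algebraMap R A) ⋙ MonoidalCategory.tensorRight (ModuleCat.of R k) :=
  NatIso.ofComponents (fun X =>
    letI : Algebra A (k ⊗[R] A) := ((inclF R A k)).toAlgebra
    letI : Module R X := Module.compHom X (algebraMap R A)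
    haveI : IsScalarTower R A X := IsScalarTower.of_algebraMap_smul fun _ _ => rfl
    haveI : IsScalarTower R A (k ⊗[R] A) := IsScalarTower.of_algebraMap_eq fun r =>
      show _ = inclF R A k (algebraMap R A r) from ((Algebra.TensorProduct.includeRight : A →ₐ[R] k ⊗[R] A).commutes r).symm
    let c : (k ⊗[R] A) ≃ₗ[A] A ⊗[R] k :=
      { (TensorProduct.comm R k A) with
        map_smul' := fun a z => by
          induction z using TensorProduct.induction_on with
          | zero => simp
          | tmul x y =>
            have h1 : a • (x ⊗ₜ[R] y) = ((1 : k) ⊗ₜ[R] a) * (x ⊗ₜ[R] y) := rfl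
            simp only [AddHom.toFun_eq_coe, LinearMap.coe_toAddHom, LinearEquiv.coe_coe, RingHom.id_apply]
            rw [h1, Algebra.TensorProduct.tmul_mul_tmul, one_mul, TensorProduct.comm_tmul, TensorProduct.comm_tmul,
              TensorProduct.smul_tmul', smul_eq_mul]
          | add x y hx hy => simp only [smul_add, AddHom.toFun_eq_coe, map_add] at hx hy ⊢; simp [hx, hy] }
    let e := (TensorProduct.comm A (k ⊗[R] A) X).trans
      ((LinearEquiv.lTensor X c).trans (TensorProduct.AlgebraTensorModule.cancelBaseChange R A A X k))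
    LinearEquiv.toModuleIso
      (semiEquiv (X := X) (Y := X ⊗[R] k) (Z := (k ⊗[R] A) ⊗[A] X) k e fun r z => by
        rw [IsScalarTower.algebraMap_apply R A (k ⊗[R] A), algebraMap_smul, map_smul, algebraMap_smul]))
    (fun {X Y} g => by
      letI : Module R X := Module.compHom X (algebraMap R A)
      letI : Module R Y := Module.compHom Y (algebraMap R A)
      letI : Algebra A (k ⊗[R] A) := ((inclF R A k)).toAlgebra
      refine ModuleCat.hom_ext (LinearMap.ext fun z => ?_)
      induction z using TensorProduct.induction_on with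
      | zero => simp
      | tmul w x =>
        induction w using TensorProduct.induction_on with
        | zero => simp only [TensorProduct.zero_tmul, map_zero]
        | tmul c a =>
          show (a • g.hom x) ⊗ₜ[R] c = (g.hom (a • x)) ⊗ₜ[R] c
          rw [map_smul]
        | add w₁ w₂ h₁ h₂ => simp only [TensorProduct.add_tmul, map_add] at h₁ h₂ ⊢; rw [h₁, h₂]
      | add a b ha hb => exact (map_add _ a b).trans ((congrArg₂ (· + ·) ha hb).trans (map_add _ a b).symm))

variable [IsNoetherianRing A] [Module.Flat R A]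

/-- base change of a module flat over the base stays in degree zero -/
theorem subsingleton_hd_lbc_flat [DRing.HasLBaseChange (inclF R A k)] (M : ModuleCat.{u} A)
    [Module.Flat R ((ModuleCat.restrictScalars.{u} (algebraMap R A)).obj M)] {W : Dual.D A} {m : ℤ}
    (eW : W ≅ (Dual.inD A M)⟦m⟧) {i : ℤ} (hi : i ≠ -m) :
    Subsingleton (Dual.HD (k ⊗[R] A) ((DRing.LBaseChange (inclF R A k)).obj W) i) := by
  obtain ⟨P, hb, hP, ⟨e⟩⟩ := DRingKP.exists_proj_rep_top (Dual.inD A M) 0 fun j hj =>
    DerivedCategory.isZero_of_isLE (Dual.inD A M) 0 j (by omega)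
  haveI := DRingKP.isKProjective_of_vanishesAbove hb hP
  let res := ModuleCat.restrictScalars.{u} (algebraMap R A)
  let P' := (res.mapHomologicalComplex (ComplexShape.up ℤ)).obj P
  have hflat : DRing.TermwiseFlat P' := fun j => by
    letI : Module R (P.X j) := Module.compHom _ (algebraMap R A)
    haveI : IsScalarTower R A (P.X j) := IsScalarTower.of_algebraMap_smul fun _ _ => rfl
    haveI : Module.Flat A (P.X j) := DRingKP.flat_of_projective hP j
    exact Module.Flat.trans R A (P.X j)
  have hv : DRingKP.Van 0 0 P' := DRingKP.torVan_rep (DRingKP.torVan_of_amp (amp_inD_of_flat (res.obj M) le_rfl))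
    (fun j hj => res.map_isZero (hb j hj)) hflat
    ((res.mapDerivedCategoryFactors.app P).symm ≪≫ (DRing.restrictD (algebraMap R A)).mapIso e ≪≫ resInD M)
  let res' := ModuleCat.restrictScalars.{u} (algebraMap R (k ⊗[R] A))
  have h1 : IsZero (((res'.mapHomologicalComplex (ComplexShape.up ℤ)).obj ((DRingKP.bc (inclF R A k)).obj P)).homology (m + i)) :=
    (hv (ModuleCat.of R k) (m + i) (by omega)).of_iso ((HomologicalComplex.homologyFunctor _ _ (m + i)).mapIso
      (HomologicalComplex.Hom.isoOfComponents (fun j => (fibreExtIso k).app (P.X j))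
        fun j l _ => ((fibreExtIso k).hom.naturality (P.d j l)).symm))
  have h2 := h1.of_iso ((((DRingKP.bc (inclF R A k)).obj P).sc (m + i)).mapHomologyIso res').symm
  haveI : Subsingleton (((DRingKP.bc (inclF R A k)).obj P).homology (m + i) : Type u) :=
    ModuleCat.subsingleton_of_isZero (M := res'.obj (((DRingKP.bc (inclF R A k)).obj P).homology (m + i))) h2
  haveI : (P⟦m⟧).IsKProjective := inferInstance
  haveI : Subsingleton (((HomologicalComplex.homologyFunctor (ModuleCat.{u} (k ⊗[R] A)) (ComplexShape.up ℤ) 0).shift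
      (m + i)).obj (((ModuleCat.extendScalars.{u, u, u} (inclF R A k)).mapHomologicalComplex (ComplexShape.up ℤ)).obj P) :
        Type u) := ‹Subsingleton (((DRingKP.bc (inclF R A k)).obj P).homology (m + i) : Type u)›
  let eP : DRing.toD (P⟦m⟧) ≅ W :=
    (((DerivedCategory.Q (C := ModuleCat.{u} A)).commShiftIso m).app P) ≪≫ (shiftFunctor _ m).mapIso e ≪≫ eW.symm
  exact (((DerivedCategory.homologyFunctor _ i).mapIso
      ((DRing.LBaseChange (inclF R A k)).mapIso eP.symm ≪≫ DRingKP.lBaseChangeIso (inclF R A k) (P⟦m⟧))) ≪≫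
    (DerivedCategory.homologyFunctorFactors _ i).app _ ≪≫
    (HomologicalComplex.homologyFunctor _ (ComplexShape.up ℤ) i).mapIso
      ((((ModuleCat.extendScalars.{u, u, u} (inclF R A k)).mapHomologicalComplex (ComplexShape.up ℤ)).commShiftIso m).app P) ≪≫
    ((HomologicalComplex.homologyFunctor _ (ComplexShape.up ℤ) 0).shiftIso m i (m + i) rfl).app _).toLinearEquiv.toEquiv.subsingleton

variable {k}



/-- **one degree forces Cohen–Macaulay fibres** -/
theorem isCMAt_of_single [IsNoetherianRing R] {n : ℕ} {ψ : MvPolynomial (Fin n) R →ₐ[R] A}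
    (hψ : Function.Surjective ψ) [DRing.HasLBaseChange (algebraMap R (MvPolynomial (Fin n) R))]
    {Rψ : Dual.D (MvPolynomial (Fin n) R) ⥤ Dual.D A} (adj : DRing.restrictD ψ.toRingHom ⊣ Rψ) {j : ℤ}
    (h : ∀ i : ℤ, i ≠ j → Subsingleton (Dual.HD A (Dual2.shriekVia n Rψ (Dual.inD R R)) i))
    (x : PrimeSpectrum A) : MoreMor.IsCMAt (Spec.map (CommRingCat.ofHom (algebraMap R A))) x := by
  haveI := fun (S T : Type u) [CommRing S] [CommRing T] (φ : S →+* T) => DRingKP.hasLBaseChange φ
  haveI : Algebra.FiniteType R A := Algebra.FiniteType.of_surjective ψ hψ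
  haveI : Algebra.FinitePresentation R A := Algebra.FinitePresentation.of_finiteType.1 inferInstance
  let W := Dual2.shriekVia n Rψ (Dual.inD R R)
  obtain ⟨-, hfin, ⟨a, b, hamp⟩, ⟨hbij, hext⟩, -⟩ := S1801.result R A n ψ hψ Rψ adj
  haveI : W.IsGE j := (DerivedCategory.isGE_iff _ j).2 fun i hi =>
    haveI := h i (by omega)
    ModuleCat.isZero_of_subsingleton _
  haveI : W.IsLE j := (DerivedCategory.isLE_iff _ j).2 fun i hi =>
    haveI := h i (by omega)
    ModuleCat.isZero_of_subsingleton _
  obtain ⟨M, ⟨eM⟩⟩ := DerivedCategory.exists_iso_singleFunctor_obj_of_isGE_of_isLE W j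
  haveI : Module.Finite A M := by
    haveI := hfin j
    exact Module.Finite.equiv (((DerivedCategory.homologyFunctor (ModuleCat.{u} A) j).mapIso eM) ≪≫
      (DerivedCategory.singleFunctorCompHomologyFunctorIso (ModuleCat.{u} A) j).app M).toLinearEquiv
  let eS : W⟦j⟧ ≅ Dual.inD A M := (shiftFunctor (Dual.D A) j).mapIso eM ≪≫
    ((DerivedCategory.singleFunctors (ModuleCat.{u} A)).shiftIso j 0 j (add_zero j)).app M
  have hEnd : Function.Bijective fun c : A => c • 𝟙 (Dual.inD A M) := by
    have hb' : Function.Bijective fun c : A => c • 𝟙 (W⟦j⟧) := by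
      have hc : (fun c : A => c • 𝟙 (W⟦j⟧)) = (shiftFunctor (Dual.D A) j).map ∘ fun c : A => c • 𝟙 W :=
        funext fun c => by
          show _ = (shiftFunctor (Dual.D A) j).map (c • 𝟙 W)
          rw [Functor.map_smul, CategoryTheory.Functor.map_id]
      rw [hc]
      exact (Functor.FullyFaithful.ofFullyFaithful (shiftFunctor (Dual.D A) j)).homEquiv.bijective.comp hbij
    have hc : (fun c : A => c • 𝟙 (Dual.inD A M)) = Linear.homCongr A eS eS ∘ fun c : A => c • 𝟙 (W⟦j⟧) :=
      funext fun c => by simp [Linear.homCongr_apply, Linear.smul_comp, Linear.comp_smul]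
    rw [hc]
    exact (LinearEquiv.bijective _).comp hb'
  have hExt : ∀ i : ℤ, i ≠ 0 → Subsingleton (Dual.inD A M ⟶ (Dual.inD A M)⟦i⟧) := fun i hi => by
    haveI := hext i hi
    haveI : Subsingleton (W⟦j⟧ ⟶ (W⟦i⟧)⟦j⟧) :=
      (Functor.FullyFaithful.ofFullyFaithful (shiftFunctor (Dual.D A) j)).homEquiv.symm.subsingleton
    exact ((Linear.homCongr A eS
      ((shiftComm W i j) ≪≫ (shiftFunctor (Dual.D A) i).mapIso eS))).toEquiv.subsingleton_congr.1 inferInstance
  have hamp' := DRingKP.amp_of_iso (((DRing.restrictD (algebraMap R A)).commShiftIso j).app W).symm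
    (DRingKP.amp_shift hamp j)
  have hamp'' := DRingKP.amp_of_iso ((DRing.restrictD (algebraMap R A)).mapIso eS) hamp'
  haveI hflat : Module.Flat R ((ModuleCat.restrictScalars.{u} (algebraMap R A)).obj M) := by
    refine flat_of_semidual_inD M hEnd hExt (a := a - j) ?_
    refine DRingKP.amp_shrink hamp'' fun l hl => ?_
    exact (DerivedCategory.isZero_of_isLE (Dual.inD R _) 0 l (by omega)).of_iso
      ((DerivedCategory.homologyFunctor (ModuleCat.{u} R) l).mapIso (resInD M))
  refine CMChart.isCMAt_Spec (fun p => ?_) x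
  let k := p.asIdeal.ResidueField
  haveI : IsNoetherianRing (k ⊗[R] A) := Algebra.FiniteType.isNoetherianRing k (k ⊗[R] A)
  let ι' := (Algebra.TensorProduct.includeRight : A →ₐ[R] k ⊗[R] A).toRingHom
  have hω := Shriek.isDualizing_shriekVia_fibre (R := R) hψ Rψ adj k
  refine { isCohenMacaulayLocalRing_localization := fun Q _ => ?_ }
  let eWM : W ≅ (Dual.inD A M)⟦-j⟧ := ((shiftFunctorCompIsoId (Dual.D A) j (-j) (by omega)).app W).symm ≪≫
    (shiftFunctor (Dual.D A) (-j)).mapIso eS
  have hvan : ∀ i : ℤ, i ≠ j → DualCx.Van ((DRing.LBaseChange ι').obj W) Q (k ⊗[R] A) i := fun i hi => by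
    have := subsingleton_hd_lbc_flat (R := R) k M eWM (i := i) (by omega)
    exact DualCx.van_of_subsingleton Ideal.IsPrime.ne_top'
      ((DualCx.homEquiv _ i).toEquiv.subsingleton_congr.2 this)
  refine (DualCx.isCohenMacaulayLocalRing_iff hω ⟨Q, inferInstance⟩).2 fun i i' hni hni' => ?_
  have : i = j := not_not.1 fun hne => hni (hvan i hne)
  have : i' = j := not_not.1 fun hne => hni' (hvan i' hne)
  omega

end

end Groth.Agent.ShriekAffine
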