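import Groth.Agent.ShriekAffine.Chart
import Groth.Agent.DualSch.Glue
import Groth.Agent.KSixLib.PerfFibre
import Groth.Agent.GorMor.Scheme
import Groth.Agent.S1801

/-!
`f^! O` restricted to a fibre of a flat morphism is dualizing.
-/

set_option autoImplicit false
set_option backward.isDefEq.respectTransparency false
set_option backward.isDefEq.respectTransparency.types false
set_option linter.style.haveILetI false
set_option linter.unusedSectionVars false
set_option maxHeartbeats 1600000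

universe u

open CategoryTheory Limits AlgebraicGeometry
open scoped TensorProduct

attribute [local instance] HasDerivedCategory.standard

namespace Groth.Agent.ShriekAffine

open Groth.Agent.DQCoh (RD rdComp rdCongr rdIso rCIsoQC)

/-- derived pullback followed by restriction to an open -/
theorem nonempty_RD_lpull {W V X : Scheme.{u}} (j : W ⟶ V) [IsOpenImmersion j] (h : V ⟶ X) (g : W ⟶ X)
    (hg : j ≫ h = g) [DCoh.HasLpull h] [DCoh.HasLpull g] (K : DCoh.D X) :
    Nonempty ((RD j).obj ((DCoh.Lpull h).obj K) ≅ (DCoh.Lpull g).obj K) := by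
  subst hg
  obtain ⟨G, hG, -, ⟨eG⟩⟩ := KFlat.exists_isKFlat_rep K
  exact ⟨(RD j).mapIso ((DCoh.Lpull h).mapIso eG.symm ≪≫ ProjForm.lpullIso h hG) ≪≫ rdIso j _ ≪≫
    DerivedCategory.Q.mapIso (rCIsoQC j _) ≪≫
    DerivedCategory.Q.mapIso (((Functor.mapHomologicalComplexCompIso (Scheme.Modules.pullbackComp j h)
      (ComplexShape.up ℤ))).app G) ≪≫
    (ProjForm.lpullIso (j ≫ h) hG).symm ≪≫ (DCoh.Lpull _).mapIso eG⟩

/-- restriction to an open followed by derived pullback -/
theorem nonempty_lpull_RD {W V X : Scheme.{u}} (h : W ⟶ V) (j : V ⟶ X) [IsOpenImmersion j] (g : W ⟶ X)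
    (hg : h ≫ j = g) [DCoh.HasLpull h] [DCoh.HasLpull g] (K : DCoh.D X) :
    Nonempty ((DCoh.Lpull h).obj ((RD j).obj K) ≅ (DCoh.Lpull g).obj K) := by
  subst hg
  obtain ⟨G, hG, -, ⟨eG⟩⟩ := KFlat.exists_isKFlat_rep K
  exact ⟨(DCoh.Lpull h).mapIso ((RD j).mapIso eG.symm ≪≫ rdIso j G ≪≫
      DerivedCategory.Q.mapIso (rCIsoQC j G)) ≪≫
    ProjForm.lpullIso h (KFlat.isKFlat_pullback j hG) ≪≫
    DerivedCategory.Q.mapIso (((Functor.mapHomologicalComplexCompIso (Scheme.Modules.pullbackComp h j)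
      (ComplexShape.up ℤ))).app G) ≪≫
    (ProjForm.lpullIso (h ≫ j) hG).symm ≪≫ (DCoh.Lpull _).mapIso eG⟩

variable {X Y : Scheme.{u}} [IsNoetherian X] [IsNoetherian Y] {f : X ⟶ Y} [Flat f] [LocallyOfFiniteType f]
  (c : DEt.Compactification f) [DCoh.HasRpush c.fbar]
  {hc : DCoh.RpushPreservesQCoh c.fbar} {a : DCoh.DQCoh Y ⥤ DCoh.DQCoh c.Xbar}
  (adj : DCoh.RpushQ c.fbar hc ⊣ a) {O : DCoh.DQCoh Y} (hO : Nonempty (O.obj ≅ DCoh.inD Y (Coh.structureModule Y)))
  [∀ (U V : Scheme.{u}) (j : U ⟶ V) [IsOpenImmersion j], PreservesFiniteLimits (Scheme.Modules.restrictFunctor j)]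
  [∀ (R : CommRingCat.{u}), PreservesFiniteLimits (tilde.functor R)]

include adj hO

theorem exists_fibre_chart (y : Y) [DCoh.HasLpull (f.fiberι y)] (x : ↥(f.fiber y)) :
    ∃ (B : Type u) (_ : CommRing B) (k : Spec (CommRingCat.of B) ⟶ f.fiber y) (_ : IsOpenImmersion k)
      (ω : Dual.D B), x ∈ Set.range k ∧ Dual.IsDualizing B ω ∧
        Nonempty ((RD k).obj ((DCoh.Lpull (f.fiberι y)).obj ((RD c.j).obj (a.obj O).obj)) ≅
          (DCoh.tildeD (CommRingCat.of B)).obj ω) := by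
  haveI := fun (S T : Type u) [CommRing S] [CommRing T] (φ : S →+* T) => DRingKP.hasLBaseChange φ
  obtain ⟨R, A, _, _, _, _, _, n, ψ, v, hv, w, hwo, q, hψ, hq, -, hw, hfl⟩ :=
    exists_chart f (f.fiberι y x) (W := ⊤) trivial
  haveI := hfl inferInstance
  obtain ⟨Rψ, ⟨adjψ⟩⟩ := exists_adjoint ψ.toRingHom
  obtain ⟨e⟩ := nonempty_shriek_unit c adj hO hψ adjψ v w hw
  obtain ⟨-, -, -, -, hd⟩ := S1801.result R A n ψ hψ Rψ adjψ
  let qq := Spec.map (CommRingCat.ofHom (algebraMap R A))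
  have hy : y ∈ Set.range v := by
    refine ⟨qq q, ?_⟩
    have h1 : v (qq q) = f (w q) := congr($hw q)
    rw [h1, hq]
    exact congr($(pullback.condition (f := f) (g := Y.fromSpecResidueField y)) x).trans
      (Y.fromSpecResidueField_apply y _)
  let g₀ : Spec (Y.residueField y) ⟶ Spec (CommRingCat.of R) :=
    IsOpenImmersion.lift v (Y.fromSpecResidueField y) (by rw [Scheme.range_fromSpecResidueField]; simpa using hy)
  have hg₀ : g₀ ≫ v = Y.fromSpecResidueField y := IsOpenImmersion.lift_fac _ _ _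
  let k : Type u := Y.residueField y
  letI : Field k := inferInstanceAs (Field (Y.residueField y))
  letI : Algebra R k := (Spec.preimage g₀).hom.toAlgebra
  have hgk : Spec.map (CommRingCat.ofHom (algebraMap R k)) = g₀ := Spec.map_preimage g₀
  let ir : A →+* k ⊗[R] A := (Algebra.TensorProduct.includeRight : A →ₐ[R] k ⊗[R] A).toRingHom
  let s := Spec.map (CommRingCat.ofHom ir)
  let t := Spec.map (CommRingCat.ofHom (Algebra.TensorProduct.includeLeftRingHom : k →+* k ⊗[R] A))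
  have h0 : IsPullback t s (Spec.map (CommRingCat.ofHom (algebraMap R k))) qq := by
    refine IsPullback.of_iso_pullback ⟨?_⟩ (pullbackSpecIso R k A).symm (pullbackSpecIso_inv_fst R k A)
      (pullbackSpecIso_inv_snd R k A)
    show t ≫ _ = s ≫ _
    rw [show t = (pullbackSpecIso R k A).inv ≫ pullback.fst _ _ from (pullbackSpecIso_inv_fst R k A).symm,
      show s = (pullbackSpecIso R k A).inv ≫ pullback.snd _ _ from (pullbackSpecIso_inv_snd R k A).symm,
      Category.assoc, Category.assoc, pullback.condition]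
  have h1 : IsPullback s t (w ≫ f) (Y.fromSpecResidueField y) := by
    rw [← hw, ← hg₀, ← hgk]
    exact IsPullback.of_isLimit' ⟨by rw [← Category.assoc, ← Category.assoc, h0.flip.w]⟩
      (PullbackCone.isLimitOfCompMono _ _ v h0.flip.cone h0.flip.isLimit)
  have hcond : (s ≫ w) ≫ f = t ≫ Y.fromSpecResidueField y := by rw [Category.assoc]; exact h1.w
  let kk : Spec (CommRingCat.of (k ⊗[R] A)) ⟶ f.fiber y := pullback.lift (s ≫ w) t hcond
  have hk1 : kk ≫ f.fiberι y = s ≫ w := pullback.lift_fst _ _ _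
  have hk2 : kk ≫ f.fiberToSpecResidueField y = t := pullback.lift_snd _ _ _
  have hsq : IsPullback s kk w (f.fiberι y) :=
    IsPullback.of_bot (h₁₁ := s) (v₂₂ := f) (v₂₁ := f.fiberToSpecResidueField y) (by
      show IsPullback s (kk ≫ f.fiberToSpecResidueField y) (w ≫ f) (Y.fromSpecResidueField y)
      rw [hk2]; exact h1) hk1.symm (ConsEngine.isPullback_fiber f y)
  haveI : IsOpenImmersion kk := MorphismProperty.of_isPullback (P := @IsOpenImmersion) hsq ‹_›
  have hx : x ∈ Set.range kk := by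
    obtain ⟨z, -, hz⟩ := Scheme.Pullback.exists_preimage_pullback (f := w) (g := f.fiberι y) q x hq
    exact ⟨hsq.isoPullback.inv z, (congr($(hsq.isoPullback_inv_snd) z)).trans hz⟩
  haveI := KFlat.hasLpull s
  haveI := KFlat.hasLpull (s ≫ w)
  obtain ⟨e1⟩ := nonempty_RD_lpull kk (f.fiberι y) (s ≫ w) hk1 ((RD c.j).obj (a.obj O).obj)
  obtain ⟨e2⟩ := nonempty_lpull_RD s w (s ≫ w) rfl ((RD c.j).obj (a.obj O).obj)
  obtain ⟨et⟩ := TildeKFlat.nonempty_lpull_tildeD ir
  exact ⟨k ⊗[R] A, inferInstance, kk, inferInstance, _, hx, hd k,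
    ⟨e1 ≪≫ e2.symm ≪≫ (DCoh.Lpull s).mapIso e ≪≫ (et.app _).symm⟩⟩

theorem isDualizingSch_fibre (y : Y) [DCoh.HasLpull (f.fiberι y)] :
    Dual2.IsDualizingSch (f.fiber y) ((DCoh.Lpull (f.fiberι y)).obj ((RD c.j).obj (a.obj O).obj)) := by
  haveI := GorMor.isLocallyNoetherian_fiber_of_lft f y
  choose B _ k _ ω hx hω he using exists_fibre_chart c adj hO y
  exact DualSch.isDualizingSch_of_cover _ (↥(f.fiber y)) B k (fun x => ⟨x, hx x⟩) fun x => ⟨ω x, hω x, he x⟩

end Groth.Agent.ShriekAffine
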