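import Groth.Agent.ShriekAffine.Amp
import Groth.Agent.ShriekAffine.Chart
import Groth.Agent.RelPerfAffine.Main
import Groth.Agent.RigidD.Main
import Groth.Agent.S1801

/-!
`f^! O` for flat `f` is `Y`-perfect and rigid.
-/

set_option autoImplicit false
set_option backward.isDefEq.respectTransparency false
set_option backward.isDefEq.respectTransparency.types false
set_option linter.style.haveILetI false
set_option linter.unusedSectionVars false
set_option maxHeartbeats 1600000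

universe u

open CategoryTheory Limits AlgebraicGeometry

attribute [local instance] HasDerivedCategory.standard

namespace Groth.Agent.ShriekAffine

open Groth.Agent.DQCoh

variable {X Y : Scheme.{u}} [IsNoetherian X] [IsNoetherian Y] {f : X ⟶ Y} [Flat f] [LocallyOfFiniteType f]
  (c : DEt.Compactification f) [DCoh.HasRpush c.fbar]
  {hc : DCoh.RpushPreservesQCoh c.fbar} {a : DCoh.DQCoh Y ⥤ DCoh.DQCoh c.Xbar}
  (adj : DCoh.RpushQ c.fbar hc ⊣ a) {O : DCoh.DQCoh Y} (hO : Nonempty (O.obj ≅ DCoh.inD Y (Coh.structureModule Y)))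

include adj hO

theorem sPerf_shriek : (∀ m : ℤ, DCoh.IsPseudoCoherentD m ((RD c.j).obj (a.obj O).obj)) ∧
    DCoh.LocHasFiniteRelTorDim f ((RD c.j).obj (a.obj O).obj) := by
  haveI := fun (S T : Type u) [CommRing S] [CommRing T] (φ : S →+* T) => DRingKP.hasLBaseChange φ
  have key : ∀ x : X, (∀ m : ℤ, ∃ (U : Scheme.{u}) (j : U ⟶ X) (_ : IsOpenImmersion j) (v : U),
      j.base v = x ∧ PCOn j m ((RD c.j).obj (a.obj O).obj)) ∧
      ∃ (V : X.Opens) (l h : ℤ), x ∈ V ∧ ∀ y ∈ V, RelAmpAt f l h ((RD c.j).obj (a.obj O).obj) y := fun x => by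
    obtain ⟨R, A, _, _, _, _, _, n, ψ, v, hv, w, hwo, q, hψ, hq, -, hw, hfl⟩ := exists_chart f x (W := ⊤) trivial
    haveI := hfl inferInstance
    haveI : Algebra.FinitePresentation R A :=
      Algebra.FinitePresentation.of_finiteType.1 (Algebra.FiniteType.of_surjective ψ hψ)
    haveI : PreservesFiniteLimits (tilde.functor (CommRingCat.of A)) := QC.tilde_preservesFiniteLimits
    obtain ⟨Rψ, ⟨adjψ⟩⟩ := exists_adjoint ψ.toRingHom
    obtain ⟨e⟩ := nonempty_shriek_unit c adj hO hψ adjψ v w hw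
    obtain ⟨hpc, htor⟩ := RelPerfAffine.sPerf_tilde R A
      ((Shriek.shr_shriekVia ψ Rψ adjψ (Dual.inD R R)).isRelPerfect hψ)
    haveI := RelPerfAffine.flat_spec R A
    refine ⟨fun m => ?_, ?_⟩
    · obtain ⟨U, k, _, u₀, hu₀, hP⟩ := (pc_iff_near m _).1 (pc_of_iso e.symm (hpc m)) q
      exact ⟨U, k ≫ w, inferInstance, u₀, by rw [Scheme.Hom.comp_base, TopCat.comp_app, hu₀, hq], pcOn_push k w hP⟩
    · obtain ⟨V, l, h, hqV, hV⟩ := locHas_iff.1 htor q
      refine ⟨w ''ᵁ V, l, h, ⟨q, hqV, hq⟩, ?_⟩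
      rintro _ ⟨z, hz, rfl⟩
      exact relAmpAt_chart f w v _ hw _ z (relAmpAt_of_iso e.symm (hV z hz))
  exact ⟨fun m => (pc_iff_near m _).2 fun x => (key x).1 m, locHas_iff.2 fun x => (key x).2⟩

theorem rigidNear_shriek (x : X) (W : X.Opens) (hx : x ∈ W) :
    RigidD.RigidNear ((RD c.j).obj (a.obj O).obj) x W := by
  haveI := fun (S T : Type u) [CommRing S] [CommRing T] (φ : S →+* T) => DRingKP.hasLBaseChange φ
  obtain ⟨R, A, _, _, _, _, _, n, ψ, v, hv, w, hwo, q, hψ, hq, hW, hw, hfl⟩ := exists_chart f x hx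
  haveI := hfl inferInstance
  obtain ⟨Rψ, ⟨adjψ⟩⟩ := exists_adjoint ψ.toRingHom
  obtain ⟨-, -, -, ⟨h0, h1⟩, -⟩ := S1801.result R A n ψ hψ Rψ adjψ
  exact ⟨A, _, w, hwo, _, ⟨q, hq⟩, hW, nonempty_shriek_unit c adj hO hψ adjψ v w hw, h0, h1⟩

end Groth.Agent.ShriekAffine
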