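import Groth.Agent.ShriekAffine.Chart
import Groth.Agent.RelPerfAffine.Main
import Groth.Agent.DRingKP.Amp

/-!
Relative tor amplitude on charts.
-/

set_option autoImplicit false
set_option backward.isDefEq.respectTransparency false
set_option backward.isDefEq.respectTransparency.types false
set_option linter.style.haveILetI false
set_option linter.unusedSectionVars false
set_option maxHeartbeats 1600000

universe u

open CategoryTheory Limits AlgebraicGeometry HomologicalComplex DerivedCategory
open Groth.Agent.DQCoh Groth.Agent.DRingKP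
open Groth.Agent.W7RelPerf (rsM rsC)

attribute [local instance] HasDerivedCategory.standard

namespace Groth.Agent.ShriekAffine

/-- tor amplitude over the base, on the stalks of the sheaves -/
theorem relAmp_tilde {R A : Type u} [CommRing R] [CommRing A] [Algebra R A] [Module.Flat R A] {ω : Dual.D A}
    {a b : ℤ} (h : DRing.HasTorAmplitudeIn R a b ((DRing.restrictD (algebraMap R A)).obj ω))
    (x : Spec (CommRingCat.of A)) :
    RelAmpAt (Spec.map (CommRingCat.ofHom (algebraMap R A))) a b ((DCoh.tildeD (CommRingCat.of A)).obj ω) x := by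
  have hab : IsAbove (b + 1) ω := fun j hj => by
    have h1 := (torVan_isAbove h j hj).of_iso
      ((DQCoh.homologyDerIso (rsM R A) j).app ω).symm
    haveI := ModuleCat.subsingleton_of_isZero h1
    exact @ModuleCat.isZero_of_subsingleton _ _ _ ‹_›
  obtain ⟨P, c, hc, hP, ⟨e⟩⟩ := exists_proj_rep_le ω ⟨_, hab⟩
  have hPR : DRing.TermwiseFlat ((rsC R A).obj P) := fun i => by
    letI : Module R (P.X i) := Module.compHom _ (algebraMap R A)
    haveI : IsScalarTower R A (P.X i) := ⟨fun r x y => by rw [Algebra.smul_def, mul_smul]; rfl⟩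
    haveI : Module.Flat A (P.X i) := flat_of_projective hP i
    exact Module.Flat.trans R A (P.X i)
  have hv : Van a b ((rsC R A).obj P) := torVan_rep (torVan_of_amp h) (fun i hi => (rsM R A).map_isZero (hc i hi)) hPR
    (((rsM R A).mapDerivedCategoryFactors.app P).symm ≪≫
      (DRing.restrictD (algebraMap R A)).mapIso e)
  have hz : ∀ i, i < a → IsZero (P.homology i) := fun i hi => by
    have h := (isZero_homology_of_van hv (Or.inl hi)).of_iso ((P.sc i).mapHomologyIso (rsM R A)).symm
    haveI := ModuleCat.subsingleton_of_isZero h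
    exact @ModuleCat.isZero_of_subsingleton _ _ _ ‹_›
  haveI : P.IsGE a := (CochainComplex.isGE_iff P a).2 fun i hi =>
    (HomologicalComplex.exactAt_iff_isZero_homology _ _).2 (hz i hi)
  haveI : QuasiIso (P.πTruncGE a) := (CochainComplex.quasiIso_πTruncGE_iff P a).2 inferInstance
  haveI : P.IsStrictlyLE c := (CochainComplex.isStrictlyLE_iff P c).2 hc
  let T := P.sc' (a - 1) a (a + 1)
  let eop : (P.truncGE a).X a ≅ ModuleCat.of A (P.X a ⧸ LinearMap.range (P.d (a - 1) a).hom) :=
    P.truncGEXIsoOpcycles a ≪≫ P.opcyclesIsoSc' (a - 1) a (a + 1) (by simp) (by simp) ≪≫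
      T.moduleCatOpcyclesIso
  have hflat : ∀ i, Module.Flat R ((rsM R A).obj ((P.truncGE a).X i)) := fun i => by
    rcases lt_trichotomy i a with hi | rfl | hi
    · haveI := ModuleCat.subsingleton_of_isZero
        ((rsM R A).map_isZero ((P.truncGE a).isZero_of_isStrictlyGE a i hi))
      exact inferInstanceAs (Module.Flat R ((rsM R A).obj ((P.truncGE a).X i)))
    · haveI := flat_coker hPR i fun M => hv M (i - 1) (Or.inl (by lia))
      let l : (((rsC R A).obj P).X i ⧸ LinearMap.range (((rsC R A).obj P).d (i - 1) i).hom) ≃ₗ[R]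
          (rsM R A).obj (ModuleCat.of A (P.X i ⧸ LinearMap.range (P.d (i - 1) i).hom)) :=
        { toFun := Quotient.map' id (fun x y h => by
            rw [Submodule.quotientRel_def] at h ⊢; exact h)
          map_add' := fun x y => by induction x using Submodule.Quotient.induction_on
                                    induction y using Submodule.Quotient.induction_on
                                    rfl
          map_smul' := fun r x => by induction x using Submodule.Quotient.induction_on
                                     rfl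
          invFun := Quotient.map' id (fun x y h => by
            rw [Submodule.quotientRel_def] at h ⊢; exact h)
          left_inv := fun x => by induction x using Submodule.Quotient.induction_on
                                  rfl
          right_inv := fun x => by induction x using Submodule.Quotient.induction_on
                                   rfl }
      exact Module.Flat.of_linearEquiv (((rsM R A).mapIso eop).toLinearEquiv.trans l.symm)
    · haveI : Module.Flat R ((rsM R A).obj (P.X i)) := hPR i
      exact Module.Flat.of_linearEquiv ((rsM R A).mapIso (P.truncGEXIso a i hi)).toLinearEquiv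
  have hr : DCoh.HasRelFlatAmplitudeIn (Spec.map (CommRingCat.ofHom (algebraMap R A))) a c
      ((DCoh.tildeD (CommRingCat.of A)).obj ω) :=
    ⟨(tCx (R := CommRingCat.of A)).obj (P.truncGE a), fun i hi => (tilde.functor (CommRingCat.of A)).map_isZero
        (hi.elim (fun hi => (P.truncGE a).isZero_of_isStrictlyGE a i hi)
          (fun hi => (P.truncGE a).isZero_of_isStrictlyLE c i hi)),
      fun i => (RelPerfAffine.flatOver_tilde_iff R A _).2 (hflat i),
      ⟨(tildeToDIso (R := CommRingCat.of A) _).symm ≪≫ (DCoh.tildeD (CommRingCat.of A)).mapIso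
        ((asIso (DerivedCategory.Q.map (P.πTruncGE a))).symm ≪≫ e)⟩⟩
  refine amp_shrink (relAmpAt_of_rel hr x) fun j hj => ?_
  exact ((stA _ x).map_isZero (((tilde.functor (CommRingCat.of A)).map_isZero (hab j hj)).of_iso
    ((DQCoh.homologyDerIso (tilde.functor (CommRingCat.of A)) j).app ω))).of_iso
      ((DQCoh.homologyDerIso (stA _ x) j).app _)

end Groth.Agent.ShriekAffine

namespace Groth.Agent.ShriekAffine

/-- stalks over the base and an open immersion -/
noncomputable def stAOpenIso {U X Y : Scheme.{u}} (f : X ⟶ Y) (w : U ⟶ X) [IsOpenImmersion w] (z : U) :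
    Scheme.Modules.restrictFunctor w ⋙ stA (w ≫ f) z ≅ stA f (w.base z) :=
  let ψ := (w.stalkMap z).hom
  haveI : IsIso (w.stalkMap z) := inferInstance
  haveI : (ModuleCat.restrictScalars.{u} ψ).IsEquivalence :=
    ModuleCat.restrictScalars_isEquivalence_of_ringEquiv (asIso (w.stalkMap z)).commRingCatIsoToRingEquiv
  haveI : (ModuleCat.extendScalars.{u, u, u} ψ).IsEquivalence :=
    (ModuleCat.extendRestrictScalarsAdj.{u, u, u} ψ).isEquivalence_left_of_isEquivalence_right
  haveI : IsIso (ModuleCat.extendRestrictScalarsAdj.{u, u, u} ψ).unit := inferInstance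
  Functor.isoWhiskerRight (Scheme.Modules.restrictFunctorIsoPullback w) _ ≪≫
    (Functor.associator _ _ _).symm ≪≫
    Functor.isoWhiskerRight (KFlat.pullStalkIso w z) (ModuleCat.restrictScalars.{u} ((w ≫ f).stalkMap z).hom) ≪≫
    Functor.associator _ _ _ ≪≫
    Functor.isoWhiskerLeft _ (Functor.isoWhiskerLeft _
      (ModuleCat.restrictScalarsComp'.{u} (f.stalkMap (w.base z)).hom ψ ((w ≫ f).stalkMap z).hom
        (congrArg CommRingCat.Hom.hom (Scheme.Hom.stalkMap_comp w f z))) ≪≫
      (Functor.associator _ _ _).symm ≪≫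
      Functor.isoWhiskerRight (asIso (ModuleCat.extendRestrictScalarsAdj.{u, u, u} ψ).unit).symm _ ≪≫
      Functor.leftUnitor _)

/-- tor amplitude along a bijection of rings -/
theorem amp_of_bijective {R S : Type u} [CommRing R] [CommRing S] (φ : R →+* S) (hφ : Function.Bijective φ)
    {a b : ℤ} {K : Dual.D S} (h : DRing.HasTorAmplitudeIn S a b K) :
    DRing.HasTorAmplitudeIn R a b ((DRing.restrictD φ).obj K) := by
  obtain ⟨E, hE, hf, ⟨e⟩⟩ := h
  letI := φ.toAlgebra
  haveI : Module.Flat R S := RingHom.Flat.of_bijective (f := φ) hφ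
  refine ⟨((ModuleCat.restrictScalars.{u} φ).mapHomologicalComplex (ComplexShape.up ℤ)).obj E,
    fun i hi => (ModuleCat.restrictScalars.{u} φ).map_isZero (hE i hi), fun i => ?_,
    ⟨((ModuleCat.restrictScalars.{u} φ).mapDerivedCategoryFactors.app E).symm ≪≫
      (DRing.restrictD φ).mapIso e⟩⟩
  letI : Module R (E.X i) := Module.compHom _ φ
  haveI : IsScalarTower R S (E.X i) := ⟨fun r x y => by rw [Algebra.smul_def, mul_smul]; rfl⟩
  haveI : Module.Flat S (E.X i) := hf i
  exact Module.Flat.trans R S (E.X i)

/-- tor amplitude over the base in a pair of open charts -/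
theorem relAmpAt_chart {U V X Y : Scheme.{u}} (f : X ⟶ Y) (w : U ⟶ X) [IsOpenImmersion w] (v : V ⟶ Y)
    [IsOpenImmersion v] (g : U ⟶ V) (hw : g ≫ v = w ≫ f) {a b : ℤ} (K : DCoh.D X) (z : U)
    (h : RelAmpAt g a b ((DQCoh.RD w).obj K) z) : RelAmpAt f a b K (w.base z) := by
  have key : ∀ (k : U ⟶ Y), k = g ≫ v → RelAmpAt k a b ((DQCoh.RD w).obj K) z := by
    rintro k rfl
    let e : stA (g ≫ v) z ≅ stA g z ⋙ ModuleCat.restrictScalars.{u} (v.stalkMap (g.base z)).hom :=
      Functor.isoWhiskerLeft _ (ModuleCat.restrictScalarsComp'.{u} (v.stalkMap (g.base z)).hom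
        (g.stalkMap z).hom ((g ≫ v).stalkMap z).hom (congrArg CommRingCat.Hom.hom (Scheme.Hom.stalkMap_comp g v z))) ≪≫
        (Functor.associator _ _ _).symm
    let F := (DerivedCategory.Q (C := U.Modules)).objPreimage ((DQCoh.RD w).obj K)
    let eF := (DerivedCategory.Q (C := U.Modules)).objObjPreimageIso ((DQCoh.RD w).obj K)
    have h1 := amp_of_bijective (v.stalkMap (g.base z)).hom
      (ConcreteCategory.bijective_of_isIso (v.stalkMap (g.base z))) h
    refine DRingKP.amp_of_iso ?_ h1
    exact (DRing.restrictD _).mapIso ((stA g z).mapDerivedCategory.mapIso eF.symm ≪≫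
        (stA g z).mapDerivedCategoryFactors.app F) ≪≫
      (ModuleCat.restrictScalars.{u} (v.stalkMap (g.base z)).hom).mapDerivedCategoryFactors.app _ ≪≫
      DerivedCategory.Q.mapIso (show ((ModuleCat.restrictScalars.{u} (v.stalkMap (g.base z)).hom).mapHomologicalComplex
          (ComplexShape.up ℤ)).obj (((stA g z).mapHomologicalComplex (ComplexShape.up ℤ)).obj F) ≅
          ((stA (g ≫ v) z).mapHomologicalComplex (ComplexShape.up ℤ)).obj F from
        HomologicalComplex.Hom.isoOfComponents (fun n => (e.app (F.X n)).symm)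
          fun p q _ => (e.inv.naturality (F.d p q)).symm) ≪≫
      ((stA (g ≫ v) z).mapDerivedCategoryFactors.app F).symm ≪≫ (stA (g ≫ v) z).mapDerivedCategory.mapIso eF
  let F := (DerivedCategory.Q (C := X.Modules)).objPreimage K
  let eF := (DerivedCategory.Q (C := X.Modules)).objObjPreimageIso K
  refine DRingKP.amp_of_iso ?_ (key (w ≫ f) hw.symm)
  exact (stA (w ≫ f) z).mapDerivedCategory.mapIso ((DQCoh.RD w).mapIso eF.symm ≪≫
      (Scheme.Modules.restrictFunctor w).mapDerivedCategoryFactors.app F) ≪≫
    (stA (w ≫ f) z).mapDerivedCategoryFactors.app _ ≪≫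
    DerivedCategory.Q.mapIso (show ((stA (w ≫ f) z).mapHomologicalComplex (ComplexShape.up ℤ)).obj
        (((Scheme.Modules.restrictFunctor w).mapHomologicalComplex (ComplexShape.up ℤ)).obj F) ≅
        ((stA f (w.base z)).mapHomologicalComplex (ComplexShape.up ℤ)).obj F from
      HomologicalComplex.Hom.isoOfComponents (fun n => (stAOpenIso f w z).app (F.X n))
        fun p q _ => ((stAOpenIso f w z).hom.naturality (F.d p q)).symm) ≪≫
    ((stA f (w.base z)).mapDerivedCategoryFactors.app F).symm ≪≫ (stA f (w.base z)).mapDerivedCategory.mapIso eF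

end Groth.Agent.ShriekAffine
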