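import Groth.Agent.ShriekAffine.Amp
import Groth.Agent.DCohShriek.CoherentMain
import Groth.Agent.DCohShriek.DualizingField
import Groth.Agent.CohCentre
import Groth.Agent.SpQS.QFAt
import Groth.Agent.K0Coh.Basic

/-!
Small facts for the quasi-finite case.
-/

set_option autoImplicit false
set_option backward.isDefEq.respectTransparency false
set_option backward.isDefEq.respectTransparency.types false
set_option linter.style.haveILetI false

universe u

open CategoryTheory Limits AlgebraicGeometry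

attribute [local instance] HasDerivedCategory.standard

namespace Groth.Agent.ShriekAffine

theorem fibreDimAt_eq_zero {X Y : Scheme.{u}} (f : X ⟶ Y) [LocallyQuasiFinite f] [LocallyOfFiniteType f] (x : X) :
    FlatMor.fibreDimAt f x = 0 :=
  (SpQS.fibreDimAt_eq_zero_iff f x).2 (Scheme.Hom.quasiFiniteAt_iff_isOpen_singleton_asFiber.2 (isOpen_discrete _))

theorem fibre_dim_le_zero {X Y : Scheme.{u}} (f : X ⟶ Y) [LocallyQuasiFinite f] (s : Y) :
    topologicalKrullDim ↥(f.fiber s) ≤ ((0 : ℕ) : WithBot ℕ∞) := by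
  haveI : DiscreteTopology ↥(f.fiber s) := inferInstance
  refine Order.krullDim_nonpos_iff_forall_isMax.2 fun A B hAB => ?_
  intro z hz
  obtain ⟨a, ha⟩ := A.2.nonempty
  have := B.2.isPreirreducible.subsingleton
  exact (this hz (hAB ha)).symm ▸ ha

theorem coh_unit {Y : Scheme.{u}} [IsNoetherian Y] {O : DCoh.D Y} (e : O ≅ DCoh.inD Y (Coh.structureModule Y)) (i : ℤ) :
    Coh.IsCoh (DCoh.HD O i) := by
  refine DCohShriek.coh_HD_iso e.symm i ?_
  by_cases hi : i = 0
  · subst hi
    exact DCohShriek.isCoh_iso ((DerivedCategory.singleFunctorCompHomologyFunctorIso _ 0).app _).symm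
      (CohCentre.isCoh_unit Y)
  · exact DCohShriek.isCoh_iso (IsZero.iso (DCohShriek.isZero_HD_inD _ hi) (isZero_zero _)).symm
      (K0Coh.isCoh_of_isZero (isZero_zero _))

theorem isZero_unit {Y : Scheme.{u}} {O : DCoh.D Y} (e : O ≅ DCoh.inD Y (Coh.structureModule Y)) (i : ℤ) (hi : i < 0) :
    IsZero (DCoh.HD O i) :=
  (DCohShriek.isZero_HD_inD _ (ne_of_lt hi)).of_iso ((DerivedCategory.homologyFunctor _ i).mapIso e)

theorem isFlatOver_zero {X Y : Scheme.{u}} {f : X ⟶ Y} {K : DCoh.D X} (h : DCoh.HasRelFlatAmplitudeIn f 0 0 K) :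
    FlatMod.IsFlatOver f (DCoh.HD K 0) := by
  obtain ⟨E, hE, hf, ⟨e⟩⟩ := h
  haveI : E.IsStrictlyGE 0 := (CochainComplex.isStrictlyGE_iff E 0).2 fun i hi => hE i (Or.inl hi)
  haveI : E.IsStrictlyLE 0 := (CochainComplex.isStrictlyLE_iff E 0).2 fun i hi => hE i (Or.inr hi)
  obtain ⟨M, ⟨eM⟩⟩ := CochainComplex.exists_iso_single E 0
  refine DQCoh.isFlatOver_of_iso (((DerivedCategory.homologyFunctor _ 0).mapIso e.symm ≪≫
    (DerivedCategory.homologyFunctor _ 0).mapIso (DerivedCategory.Q.mapIso eM ≪≫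
      ((DerivedCategory.singleFunctorIsoCompQ X.Modules 0).app M).symm) ≪≫
    (DerivedCategory.singleFunctorCompHomologyFunctorIso _ 0).app M)).symm ?_
  exact DQCoh.isFlatOver_of_iso (show E.X 0 ≅ M from (HomologicalComplex.eval _ _ 0).mapIso eM ≪≫
    (HomologicalComplex.singleObjXSelf (ComplexShape.up ℤ) 0 M : _)) (hf 0)

end Groth.Agent.ShriekAffine
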