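import Groth.Agent.ShriekAffine.CMShriek
import Groth.Agent.ShriekAffine.CMRev

/-!
`f` is Cohen–Macaulay at `x` iff `f^! O` is one sheaf near `x`.
-/

set_option autoImplicit false
set_option backward.isDefEq.respectTransparency false
set_option backward.isDefEq.respectTransparency.types false
set_option linter.style.haveILetI false
set_option linter.unusedSectionVars false
set_option maxHeartbeats 1600000

universe u

open CategoryTheory Limits AlgebraicGeometry

attribute [local instance] HasDerivedCategory.standard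

namespace Groth.Agent.ShriekAffine

open Groth.Agent.DQCoh (RD)

/-- vanishing on an open, read on a smaller chart -/
theorem isZero_restrict_of_subset {T X : Scheme.{u}} (w : T ⟶ X) [IsOpenImmersion w] {U : X.Opens}
    (hw : Set.range w ⊆ U) {M : X.Modules} (h : IsZero (M.restrict U.ι)) :
    IsZero ((Scheme.Modules.restrictFunctor w).obj M) := by
  refine KFlat.isZero_of_stalks _ fun z => ?_
  have hsupp : (⟨w z, hw ⟨z, rfl⟩⟩ : (U : Scheme.{u})) ∉ CohB1.support (M.restrict U.ι) := fun hs =>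
    hs (ModuleCat.subsingleton_of_isZero ((DerSch.stalkFunctor (U : Scheme.{u}) _).map_isZero h))
  by_contra hne
  refine hsupp ?_
  show _ ∈ CohB1.support ((Scheme.Modules.restrictFunctor U.ι).obj M)
  rw [PerfGen.support_restrict]
  have : z ∈ CohB1.support ((Scheme.Modules.restrictFunctor w).obj M) :=
    fun hs => hne (@ModuleCat.isZero_of_subsingleton _ _ _ hs)
  rw [PerfGen.support_restrict] at this
  exact this

/-- a tilde that vanishes comes from zero -/
theorem subsingleton_of_isZero_tilde {A : CommRingCat.{u}} {M : ModuleCat.{u} A} (h : IsZero (tilde M)) :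
    Subsingleton M := by
  rw [IsZero.iff_id_eq_zero] at h
  exact ModuleCat.subsingleton_of_isZero ((IsZero.iff_id_eq_zero _).2
    ((tilde.functor A).map_injective (by rw [CategoryTheory.Functor.map_id, Functor.map_zero]; exact h)))

/-- Cohen–Macaulayness passes through an open immersion of the base -/
theorem isCMAt_comp_openImmersion {U V Y : Scheme.{u}} (g : U ⟶ V) (v : V ⟶ Y) [IsOpenImmersion v] (z : U)
    [Flat (g ≫ v)] [IsLocallyNoetherian ((g ≫ v).fiber (v (g z)))] (h : MoreMor.IsCMAt g z) :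
    MoreMor.IsCMAt (g ≫ v) z := by
  have sq : IsPullback (𝟙 U) g (g ≫ v) v :=
    ⟨⟨by simp⟩, ⟨PullbackCone.IsLimit.mk _ (fun s => s.fst) (fun s => Category.comp_id _)
      (fun s => (cancel_mono v).1 ((Category.assoc _ _ _).trans s.condition))
      fun s m h1 _ => (Category.comp_id m).symm.trans h1⟩⟩
  exact CMFlat.isCMAt_of_baseChange sq z (Or.inl inferInstance) (Flat.stalkMap (g ≫ v) _) h

/-- all cohomology vanishes ⇒ zero -/
theorem isZero_of_hd {A : Type u} [CommRing A] (W : Dual.D A) (h : ∀ i : ℤ, Subsingleton (Dual.HD A W i)) : IsZero W := by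
  haveI : W.IsGE 1 := (DerivedCategory.isGE_iff _ 1).2 fun i _ => haveI := h i; ModuleCat.isZero_of_subsingleton _
  haveI : W.IsLE 0 := (DerivedCategory.isLE_iff _ 0).2 fun i _ => haveI := h i; ModuleCat.isZero_of_subsingleton _
  exact DerivedCategory.TStructure.t.isZero W 0 1 (by omega)

variable {X Y : Scheme.{u}} [IsNoetherian X] [IsNoetherian Y] {f : X ⟶ Y} [Flat f] [LocallyOfFiniteType f]
  (c : DEt.Compactification f) [DCoh.HasRpush c.fbar]
  {hc : DCoh.RpushPreservesQCoh c.fbar} {a : DCoh.DQCoh Y ⥤ DCoh.DQCoh c.Xbar}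
  (adj : DCoh.RpushQ c.fbar hc ⊣ a) {O : DCoh.DQCoh Y} (hO : Nonempty (O.obj ≅ DCoh.inD Y (Coh.structureModule Y)))
  [∀ (U V : Scheme.{u}) (j : U ⟶ V) [IsOpenImmersion j], PreservesFiniteLimits (Scheme.Modules.restrictFunctor j)]

include adj hO

/-- `f^! O` vanishes on no nonempty open -/
theorem not_forall_isZero {U : X.Opens} (x : X) (hx : x ∈ U)
    (h : ∀ i : ℤ, IsZero ((DCoh.HD ((RD c.j).obj (a.obj O).obj) i).restrict U.ι)) : False := by
  haveI := fun (S T : Type u) [CommRing S] [CommRing T] (φ : S →+* T) => DRingKP.hasLBaseChange φ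
  obtain ⟨R, A, _, _, _, _, _, n, ψ, v, hv, w, hwo, q₀, hψ, hq₀, hW, hw, hfl⟩ := exists_chart f x hx
  haveI := hfl inferInstance
  obtain ⟨Rψ, ⟨adjψ⟩⟩ := exists_adjoint ψ.toRingHom
  obtain ⟨eω⟩ := nonempty_shriek_unit c adj hO hψ adjψ v w hw
  obtain ⟨-, -, -, ⟨hbij, -⟩, -⟩ := S1801.result R A n ψ hψ Rψ adjψ
  have hz : IsZero (Dual2.shriekVia n Rψ (Dual.inD R R)) := isZero_of_hd _ fun i => by
    obtain ⟨eH⟩ := DualSch.nonempty_restrict_HD w eω i
    exact subsingleton_of_isZero_tilde (A := CommRingCat.of A) ((isZero_restrict_of_subset w hW (h i)).of_iso eH.symm)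
  have : (1 : A) = 0 := hbij.1 (hz.eq_of_src _ _)
  exact q₀.isPrime.ne_top ((Ideal.eq_top_iff_one _).2 (this ▸ q₀.asIdeal.zero_mem))

/-- **Cohen–Macaulay at `x` iff one sheaf near `x`** -/
theorem isCMAt_iff_single (x : X) : MoreMor.IsCMAt f x ↔ ∃ (U : X.Opens) (n : ℤ), x ∈ U ∧
    (∀ i : ℤ, i ≠ n → IsZero ((DCoh.HD ((RD c.j).obj (a.obj O).obj) i).restrict U.ι)) ∧
      ¬ IsZero ((DCoh.HD ((RD c.j).obj (a.obj O).obj) n).restrict U.ι) := by
  haveI := fun (S T : Type u) [CommRing S] [CommRing T] (φ : S →+* T) => DRingKP.hasLBaseChange φ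
  haveI : LocallyOfFinitePresentation f := inferInstance
  constructor
  · intro hx
    obtain ⟨d, U₀, -, hxU₀, -, -, -, hU₀⟩ := CMChart.exists_cm_nhd f hx
    obtain ⟨T, w, hwo, hxw, -, hz, -, -⟩ :=
      exists_cm_chart c adj hO x hxU₀ (fun z hz => (hU₀ z hz).1) d (fun z hz => (hU₀ z hz).2)
    have hz' : ∀ i : ℤ, i ≠ -(d : ℤ) →
        IsZero ((DCoh.HD ((RD c.j).obj (a.obj O).obj) i).restrict w.opensRange.ι) := fun i hi => by
      refine KFlat.isZero_of_stalks _ fun z => ?_
      by_contra hne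
      have : z ∈ CohB1.support ((Scheme.Modules.restrictFunctor w.opensRange.ι).obj
          (DCoh.HD ((RD c.j).obj (a.obj O).obj) i)) := fun hs => hne (@ModuleCat.isZero_of_subsingleton _ _ _ hs)
      rw [PerfGen.support_restrict] at this
      obtain ⟨z', hz''⟩ := z.2
      have h2 : z' ∈ CohB1.support ((Scheme.Modules.restrictFunctor w).obj
          (DCoh.HD ((RD c.j).obj (a.obj O).obj) i)) := by
        rw [PerfGen.support_restrict]
        show w z' ∈ CohB1.support (DCoh.HD ((RD c.j).obj (a.obj O).obj) i)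
        rw [show w z' = w.opensRange.ι z from hz'']
        exact this
      exact h2 (ModuleCat.subsingleton_of_isZero ((DerSch.stalkFunctor T z').map_isZero (hz i hi)))
    refine ⟨w.opensRange, -(d : ℤ), hxw, hz', fun h0 => not_forall_isZero c adj hO (U := w.opensRange) x hxw fun i => ?_⟩
    by_cases hi : i = -(d : ℤ)
    · exact hi ▸ h0
    · exact hz' i hi
  · rintro ⟨U, j, hxU, hU, -⟩
    obtain ⟨R, A, _, _, _, _, _, n, ψ, v, hv, w, hwo, q₀, hψ, rfl, hW, hw, hfl⟩ := exists_chart f x hxU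
    haveI := hfl inferInstance
    obtain ⟨Rψ, ⟨adjψ⟩⟩ := exists_adjoint ψ.toRingHom
    obtain ⟨eω⟩ := nonempty_shriek_unit c adj hO hψ adjψ v w hw
    let g := Spec.map (CommRingCat.ofHom (algebraMap R A))
    haveI : Algebra.FiniteType R A := Algebra.FiniteType.of_surjective ψ hψ
    haveI : LocallyOfFiniteType g :=
      (HasRingHomProperty.Spec_iff (P := @LocallyOfFiniteType)).mpr (RingHom.finiteType_algebraMap.mpr inferInstance)
    have h1 : MoreMor.IsCMAt g q₀ := isCMAt_of_single hψ adjψ (fun i hi => by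
      obtain ⟨eH⟩ := DualSch.nonempty_restrict_HD w eω i
      exact subsingleton_of_isZero_tilde (A := CommRingCat.of A)
        ((isZero_restrict_of_subset w hW (hU i hi)).of_iso eH.symm)) q₀
    refine (CMChart.isCMAt_openImmersion_iff w f q₀).1 ?_
    haveI : Flat (g ≫ v) := by rw [hw]; infer_instance
    haveI := GrpdSlice.isLocallyNoetherian_fiber (g ≫ v) (v (g q₀))
    rw [← hw]
    exact isCMAt_comp_openImmersion g v q₀ h1

end Groth.Agent.ShriekAffine
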