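import Groth.Agent.ShriekAffine.Chart
import Groth.Agent.DualSch.SelfInv
import Groth.Agent.GorMor.Locus
import Groth.Agent.GorMor.Etale
import Groth.Agent.Shriek.GorFib

/-!
Gorenstein morphisms and invertibility of `f^! O`.
-/

set_option autoImplicit false
set_option backward.isDefEq.respectTransparency false
set_option backward.isDefEq.respectTransparency.types false
set_option linter.style.haveILetI false
set_option linter.unusedSectionVars false
set_option maxHeartbeats 1600000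

universe u

open CategoryTheory Limits AlgebraicGeometry
open scoped TensorProduct

attribute [local instance] HasDerivedCategory.standard

namespace Groth.Agent.ShriekAffine

open Groth.Agent.DQCoh (RD rdComp rdCongr)

/-- fibre rings and fibre local rings -/
theorem gorenstein_fibres_iff (R A : Type u) [CommRing R] [CommRing A] [IsNoetherianRing R] [Algebra R A]
    [Algebra.FiniteType R A] :
    (∀ p : PrimeSpectrum R, LocCoh.IsGorensteinRing (A ⊗[R] p.asIdeal.ResidueField)) ↔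
      ∀ q : PrimeSpectrum A, LocCoh.IsGorensteinLocalRing (EGA4.FibLocRing R A q.asIdeal) := by
  constructor
  · intro h q
    obtain ⟨Q, _, ⟨e⟩⟩ := FlatDepth.exists_fibre_equiv (A := R) q.asIdeal
    haveI := Goren.isGorensteinRing_of_equiv _ _
      (Algebra.TensorProduct.comm R A (q.asIdeal.comap (algebraMap R A)).ResidueField).toRingEquiv
      (h (PrimeSpectrum.comap (algebraMap R A) q))
    exact (Goren.gorenstein_equiv_iff e).1
      (LocCoh.IsGorensteinRing.isGorensteinLocalRing_localization (A := (q.asIdeal.comap (algebraMap R A)).Fiber A) Q)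
  · intro h p
    haveI : IsNoetherianRing (p.asIdeal.Fiber A) :=
      Algebra.FiniteType.isNoetherianRing p.asIdeal.ResidueField _
    refine Goren.isGorensteinRing_of_equiv (p.asIdeal.Fiber A) _
      (Algebra.TensorProduct.comm R p.asIdeal.ResidueField A).toRingEquiv
      { isGorensteinLocalRing_localization := fun Q _ => ?_ }
    let P : Ideal A := Q.comap (Algebra.TensorProduct.includeRight : A →ₐ[R] p.asIdeal.Fiber A)
    haveI hQ : (Q.comap (Algebra.TensorProduct.includeRight : A →ₐ[R] p.asIdeal.Fiber A)).LiesOver p.asIdeal :=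
      inferInstance
    have hP : P.comap (algebraMap R A) = p.asIdeal := hQ.over.symm
    haveI : P.LiesOver p.asIdeal := ⟨hP.symm⟩
    letI := Localization.AtPrime.algebraOfLiesOver p.asIdeal P
    refine (Goren.gorenstein_equiv_iff ((Ideal.Fiber.localizationAlgEquivQuotient _ Q).toRingEquiv.trans
      (Ideal.quotEquivOfEq ?_))).2 (h ⟨P, inferInstance⟩)
    simp only [hP, P]

/-- invertibility from a family of charts -/
theorem isInvertibleD_of_charts {Z : Scheme.{u}}
    [∀ (U V : Scheme.{u}) (j : U ⟶ V) [IsOpenImmersion j], PreservesFiniteLimits (Scheme.Modules.restrictFunctor j)]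
    (K : DCoh.D Z)
    (h : ∀ z : Z, ∃ (V : Scheme.{u}) (l : V ⟶ Z) (_ : IsOpenImmersion l) (m : ℤ), z ∈ Set.range l ∧
      Nonempty ((RD l).obj K ≅ (DCoh.inD V (Coh.structureModule V))⟦m⟧)) :
    Dual3.IsInvertibleD K := by
  intro z
  obtain ⟨V, l, _, m, hz, ⟨e⟩⟩ := h z
  refine ⟨l.opensRange, m, hz, ?_⟩
  have hi : l.isoOpensRange.inv ≫ l = l.opensRange.ι := l.isoOpensRange_inv_comp
  obtain ⟨eu⟩ := DualSch.nonempty_restrict_unit (X := V) l.isoOpensRange.inv
  exact ⟨(rdCongr hi.symm).app K ≪≫ (rdComp l.isoOpensRange.inv l).app K ≪≫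
    (RD l.isoOpensRange.inv).mapIso e ≪≫ ((RD l.isoOpensRange.inv).commShiftIso m).app _ ≪≫
    (CategoryTheory.shiftFunctor _ m).mapIso eu⟩

section Read

variable {X Y : Scheme.{u}} [IsNoetherian X] [IsNoetherian Y] {f : X ⟶ Y} [Flat f] [LocallyOfFiniteType f]
  (c : DEt.Compactification f) [DCoh.HasRpush c.fbar]
  {hc : DCoh.RpushPreservesQCoh c.fbar} {a : DCoh.DQCoh Y ⥤ DCoh.DQCoh c.Xbar}
  (adj : DCoh.RpushQ c.fbar hc ⊣ a) {O : DCoh.DQCoh Y} (hO : Nonempty (O.obj ≅ DCoh.inD Y (Coh.structureModule Y)))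
  [∀ (U V : Scheme.{u}) (j : U ⟶ V) [IsOpenImmersion j], PreservesFiniteLimits (Scheme.Modules.restrictFunctor j)]

include adj hO

theorem exists_invertible_of_gorenstein (x : X) (hx : Dual3.IsGorensteinAt f x) :
    ∃ U : X.Opens, x ∈ U ∧ Dual3.IsInvertibleD ((DCoh.restrictD U.ι).obj ((RD c.j).obj (a.obj O).obj)) := by
  haveI := fun (S T : Type u) [CommRing S] [CommRing T] (φ : S →+* T) => DRingKP.hasLBaseChange φ
  haveI : LocallyOfFinitePresentation f := inferInstance
  let W : X.Opens := ⟨{x | Dual3.IsGorensteinAt f x}, GorMor.isOpen_isGorensteinAt f⟩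
  obtain ⟨R, A, _, _, _, _, _, n, ψ, v, hv, w, hwo, q₀, hψ, hq₀, hW, hw, hfl⟩ := exists_chart f x (W := W) hx
  haveI := hfl inferInstance
  haveI : Algebra.FiniteType R A := Algebra.FiniteType.of_surjective ψ hψ
  haveI : Algebra.FinitePresentation R A := Algebra.FinitePresentation.of_finiteType.1 ‹_›
  obtain ⟨Rψ, ⟨adjψ⟩⟩ := exists_adjoint ψ.toRingHom
  obtain ⟨eω⟩ := nonempty_shriek_unit c adj hO hψ adjψ v w hw
  have hG := (gorenstein_fibres_iff R A).2 fun q => (GorMor.isGorensteinAt_SpecMap_iff q).1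
    ((GorMor.isGorensteinAt_iff_of_etale (k := w) (l := v) hw.symm q).1 (hW ⟨q, rfl⟩))
  refine ⟨w.opensRange, ⟨q₀, hq₀⟩, isInvertibleD_of_charts _ ?_⟩
  rintro ⟨z, q, hq⟩
  obtain ⟨g, hg, m, ⟨eg⟩⟩ := Shriek.shriekVia_of_gorenstein_fibres hψ Rψ adjψ hG q
  let sf := Spec.map (CommRingCat.ofHom (algebraMap A (Localization.Away g)))
  haveI : IsOpenImmersion sf := IsOpenImmersion.of_isLocalization (R := A) (S := Localization.Away g) g
  haveI : Module.Flat A (Localization.Away g) := IsLocalization.flat _ (Submonoid.powers g)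
  let l := IsOpenImmersion.lift w.opensRange.ι (sf ≫ w)
    ((Set.range_comp_subset_range sf w).trans (w.opensRange.range_ι).ge)
  have hl : l ≫ w.opensRange.ι = sf ≫ w := IsOpenImmersion.lift_fac _ _ _
  obtain ⟨z', hz'⟩ := (PrimeSpectrum.localization_away_comap_range (Localization.Away g) g).ge
    (show q ∈ (PrimeSpectrum.basicOpen g : Set (PrimeSpectrum A)) from hg)
  haveI : IsOpenImmersion (l ≫ w.opensRange.ι) := hl ▸ inferInstance
  haveI : IsOpenImmersion l := IsOpenImmersion.of_comp l w.opensRange.ι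
  refine ⟨_, l, inferInstance, m, ⟨z', ?_⟩, ?_⟩
  · refine w.opensRange.ι.isOpenEmbedding.injective ?_
    exact (congr($hl z')).trans ((congrArg w.base hz').trans hq)
  · obtain ⟨e₁⟩ := DualSch.nonempty_chart_restrict (B := Localization.Away g) w eω
    obtain ⟨e₂⟩ := DualSch.nonempty_restrict_structureModule (A := Localization.Away g)
      (𝟙 (Spec (CommRingCat.of (Localization.Away g))))
    obtain ⟨eu⟩ := DualSch.nonempty_restrict_unit (𝟙 (Spec (CommRingCat.of (Localization.Away g))))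
    exact ⟨((rdComp l w.opensRange.ι).app _).symm ≪≫ (rdCongr hl).app _ ≪≫ e₁ ≪≫
      (DCoh.tildeD (CommRingCat.of (Localization.Away g))).mapIso eg ≪≫
      ((DCoh.tildeD (CommRingCat.of (Localization.Away g))).commShiftIso m).app _ ≪≫
      (CategoryTheory.shiftFunctor _ m).mapIso (e₂.symm ≪≫ eu)⟩

theorem gorenstein_of_invertible (x : X) {U : X.Opens} (hxU : x ∈ U)
    (hI : Dual3.IsInvertibleD ((DCoh.restrictD U.ι).obj ((RD c.j).obj (a.obj O).obj))) :
    Dual3.IsGorensteinAt f x := by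
  haveI := fun (S T : Type u) [CommRing S] [CommRing T] (φ : S →+* T) => DRingKP.hasLBaseChange φ
  obtain ⟨V, m, hxV, ⟨eV⟩⟩ := hI ⟨x, hxU⟩
  obtain ⟨R, A, _, _, _, _, _, n, ψ, v, hv, w, hwo, q₀, hψ, rfl, hW, hw, hfl⟩ :=
    exists_chart f x (W := U.ι ''ᵁ V) ⟨⟨x, hxU⟩, hxV, rfl⟩
  haveI := hfl inferInstance
  haveI : Algebra.FiniteType R A := Algebra.FiniteType.of_surjective ψ hψ
  haveI : Algebra.FinitePresentation R A := Algebra.FinitePresentation.of_finiteType.1 ‹_›
  obtain ⟨Rψ, ⟨adjψ⟩⟩ := exists_adjoint ψ.toRingHom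
  obtain ⟨eω⟩ := nonempty_shriek_unit c adj hO hψ adjψ v w hw
  let l := IsOpenImmersion.lift (V.ι ≫ U.ι) w (by
    refine hW.trans ?_
    rintro _ ⟨y, hy, rfl⟩
    exact ⟨⟨y, hy⟩, rfl⟩)
  have hl : l ≫ V.ι ≫ U.ι = w := IsOpenImmersion.lift_fac _ _ _
  haveI : IsOpenImmersion (l ≫ V.ι ≫ U.ι) := hl ▸ inferInstance
  haveI : IsOpenImmersion l := IsOpenImmersion.of_comp l (V.ι ≫ U.ι)
  obtain ⟨e₂⟩ := DualSch.nonempty_restrict_structureModule (A := A) l
  obtain ⟨eA⟩ := DualSch.nonempty_iso_of_tildeD (A := A) (M := Dual2.shriekVia n Rψ (Dual.inD R R))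
    (N := (Dual.inD A A)⟦m⟧)
    (eω.symm ≪≫ (rdCongr hl.symm).app _ ≪≫ (rdComp l (V.ι ≫ U.ι)).app _ ≪≫
      (RD l).mapIso ((rdComp V.ι U.ι).app _ ≪≫ eV) ≪≫ ((RD l).commShiftIso m).app _ ≪≫
      (CategoryTheory.shiftFunctor _ m).mapIso e₂ ≪≫
      (((DCoh.tildeD (CommRingCat.of A)).commShiftIso m).app _).symm)
  have h := Shriek.gorenstein_fibres_of_shriekVia hψ Rψ adjψ fun q =>
    ⟨1, (Ideal.ne_top_iff_one _).1 q.isPrime.ne_top, m,
      ⟨(DRing.LBaseChange (algebraMap A (Localization.Away (1 : A)))).mapIso eA ≪≫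
        Shriek.lbcShift (algebraMap A (Localization.Away (1 : A))) m⟩⟩
  exact (GorMor.isGorensteinAt_iff_of_etale (k := w) (l := v) hw.symm q₀).2
    ((GorMor.isGorensteinAt_SpecMap_iff q₀).2 ((gorenstein_fibres_iff R A).1 h q₀))

end Read

end Groth.Agent.ShriekAffine
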