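import Groth.Agent.ShriekAffine.Chart
import Groth.Agent.ShriekAffine.Amp
import Groth.Agent.TildeKFlat.Main
import Groth.Agent.Shriek.GradeS2
import Groth.Agent.SpQS.TrdegQF

/-!
`f^! O` over a Cohen–Macaulay point of the base: lowest degree and Serre's condition `(S₂)`.
-/

set_option autoImplicit false
set_option backward.isDefEq.respectTransparency false
set_option backward.isDefEq.respectTransparency.types false
set_option linter.style.haveILetI false
set_option linter.unusedSectionVars false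
set_option maxHeartbeats 1600000

universe u

open CategoryTheory Limits AlgebraicGeometry

attribute [local instance] HasDerivedCategory.standard

namespace Groth.Agent.ShriekAffine

section Ring

variable {R A : Type u} [CommRing R] [CommRing A] [IsNoetherianRing R] [IsNoetherianRing A] [Algebra R A] {n : ℕ}
  {ψ : MvPolynomial (Fin n) R →ₐ[R] A} (hψ : Function.Surjective ψ)
  [DRing.HasLBaseChange (algebraMap R (MvPolynomial (Fin n) R))]
  {Rψ : Dual.D (MvPolynomial (Fin n) R) ⥤ Dual.D A} (adjψ : DRing.restrictD ψ.toRingHom ⊣ Rψ) {r : ℕ}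
  (hr : ∀ q : PrimeSpectrum A, q.asIdeal ∈ minimalPrimes A →
    Dual3.resTrdeg (Spec.map (CommRingCat.ofHom (algebraMap R A))) q ≤ (r : Cardinal.{u}))
  (q : Ideal A) [q.IsPrime] [LocCoh.IsCohenMacaulayLocalRing (Localization.AtPrime (q.under R))]

include hψ adjψ hr

/-- nothing below degree `-r` -/
theorem subsingleton_localized_shriek {i : ℤ} (hi : i < -(r : ℤ)) :
    Subsingleton (LocalizedModule q.primeCompl (Dual.HD A (Dual2.shriekVia n Rψ (Dual.inD R R)) i)) := by
  have H : Shriek.Over ψ (q.under R) r q := ⟨hψ, le_rfl, hr⟩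
  exact LocalizedModule.subsingleton_iff.2 fun x =>
    let ⟨s, hs, hsx⟩ := H.exists_kill (Shriek.shr_shriekVia ψ Rψ adjψ (Dual.inD R R)) hi x
    ⟨s, hs, hsx⟩

/-- `H^{-r}` is `(S₂)` at the prime -/
theorem hasSk_two_shriek (R' : Type u) [CommRing R'] [Algebra A R'] [IsLocalization.AtPrime R' q] (M' : Type u)
    [AddCommGroup M'] [Module A M'] [Module R' M'] [IsScalarTower A R' M']
    (f : Dual.HD A (Dual2.shriekVia n Rψ (Dual.inD R R)) (-(r : ℤ)) →ₗ[A] M') [IsLocalizedModule q.primeCompl f] :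
    LocCoh.HasSk 2 R' M' := by
  intro P _
  let q' : Ideal A := P.comap (algebraMap A R')
  have hq' : q' ≤ q := by
    intro a ha
    by_contra h
    exact (inferInstance : P.IsPrime).ne_top
      (Ideal.eq_top_of_isUnit_mem _ ha (IsLocalization.map_units R' (⟨a, h⟩ : q.primeCompl)))
  have H : Shriek.Over ψ (q.under R) r q' := ⟨hψ, Ideal.comap_mono hq', hr⟩
  haveI : IsLocalization.AtPrime (Localization.AtPrime P) q' :=
    IsLocalization.isLocalization_isLocalization_atPrime_isLocalization q.primeCompl _ P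
  let g := ((LocalizedModule.mkLinearMap P.primeCompl M').restrictScalars A).comp f
  haveI : IsLocalizedModule q'.primeCompl g := by
    rw [isLocalizedModule_iff_isBaseChange q'.primeCompl (Localization.AtPrime P)]
    refine IsBaseChange.comp (S := R') ?_ ?_
    · rw [← isLocalizedModule_iff_isBaseChange q.primeCompl]
      infer_instance
    · rw [← isLocalizedModule_iff_isBaseChange P.primeCompl]
      infer_instance
  exact H.min_two_le_depth (Shriek.shr_shriekVia ψ Rψ adjψ (Dual.inD R R)) (Localization.AtPrime P) _ g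

end Ring

section Stalk

/-- the stalk of a sheaf at a point of an open chart -/
noncomputable def chartStalkIso {U X : Scheme.{u}} (w : U ⟶ X) [IsOpenImmersion w] (q : U) {F : X.Modules}
    {G : U.Modules} (e : (Scheme.Modules.restrictFunctor w).obj F ≅ G) :
    (ModuleCat.restrictScalars.{u} (w.stalkMap q).hom).obj ((DerSch.stalkFunctor U q).obj G) ≅
      (DerSch.stalkFunctor X (w q)).obj F :=
  haveI : (ModuleCat.restrictScalars.{u} (w.stalkMap q).hom).IsEquivalence :=
    ModuleCat.restrictScalars_isEquivalence_of_ringEquiv (asIso (w.stalkMap q)).commRingCatIsoToRingEquiv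
  haveI : (ModuleCat.extendScalars.{u, u, u} (w.stalkMap q).hom).IsEquivalence :=
    (ModuleCat.extendRestrictScalarsAdj.{u, u, u} (w.stalkMap q).hom).isEquivalence_left_of_isEquivalence_right
  haveI : IsIso (ModuleCat.extendRestrictScalarsAdj.{u, u, u} (w.stalkMap q).hom).unit := inferInstance
  (ModuleCat.restrictScalars.{u} (w.stalkMap q).hom).mapIso ((DerSch.stalkFunctor U q).mapIso
      (e.symm ≪≫ (Scheme.Modules.restrictFunctorIsoPullback w).app F) ≪≫ (KFlat.pullStalkIso w q).app F) ≪≫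
    ((asIso (ModuleCat.extendRestrictScalarsAdj.{u, u, u} (w.stalkMap q).hom).unit).app
      ((DerSch.stalkFunctor X (w q)).obj F)).symm

/-- additive form, with semilinearity -/
theorem exists_chartStalkEquiv {U X : Scheme.{u}} (w : U ⟶ X) [IsOpenImmersion w] (q : U) {F : X.Modules}
    {G : U.Modules} (e : (Scheme.Modules.restrictFunctor w).obj F ≅ G) :
    ∃ L : G.presheaf.stalk q ≃+ F.presheaf.stalk (w q),
      ∀ (s : X.presheaf.stalk (w q)) (x : G.presheaf.stalk q), L ((w.stalkMap q).hom s • x) = s • L x :=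
  ⟨(chartStalkIso w q e).toLinearEquiv.toAddEquiv, fun s x => (chartStalkIso w q e).toLinearEquiv.map_smul s x⟩

/-- Serre's condition at a stalk, read in an affine chart -/
theorem hasSk_stalk_of_chart {X : Scheme.{u}} {A : CommRingCat.{u}} (w : Spec A ⟶ X) [IsOpenImmersion w]
    (q : PrimeSpectrum A) {F : X.Modules} {M : ModuleCat.{u} A}
    (e : (Scheme.Modules.restrictFunctor w).obj F ≅ tilde M) (k : ℕ)
    (h : ∀ (R' : Type u) [CommRing R'] [Algebra A R'] [IsLocalization.AtPrime R' q.asIdeal] (M' : Type u)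
      [AddCommGroup M'] [Module A M'] [Module R' M'] [IsScalarTower A R' M'] (f : M →ₗ[A] M')
      [IsLocalizedModule q.asIdeal.primeCompl f], LocCoh.HasSk k R' M') :
    LocCoh.HasSk k (X.presheaf.stalk (w q)) (F.presheaf.stalk (w q)) := by
  let σ := (asIso (w.stalkMap q)).commRingCatIsoToRingEquiv
  obtain ⟨L, hL⟩ := exists_chartStalkEquiv w q e
  letI : Algebra A ((Spec A).presheaf.stalk q) := (TildeKFlat.toStalkRing q).toAlgebra
  haveI : IsScalarTower A ((Spec A).presheaf.stalk q) ((tilde M).presheaf.stalk q) :=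
    .of_algebraMap_smul fun _ _ => rfl
  haveI : IsLocalization q.asIdeal.primeCompl ((Spec A).presheaf.stalk q) :=
    inferInstanceAs (IsLocalization.AtPrime ((AlgebraicGeometry.structurePresheafInCommRingCat A).stalk q) q.asIdeal)
  letI : Algebra A (X.presheaf.stalk (w q)) :=
    (σ.symm.toRingHom.comp (algebraMap A ((Spec A).presheaf.stalk q))).toAlgebra
  let σA : (Spec A).presheaf.stalk q ≃ₐ[A] X.presheaf.stalk (w q) :=
    AlgEquiv.ofRingEquiv (f := σ.symm) fun _ => rfl
  haveI : IsLocalization.AtPrime (X.presheaf.stalk (w q)) q.asIdeal :=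
    IsLocalization.isLocalization_of_algEquiv q.asIdeal.primeCompl σA
  letI : Module A (F.presheaf.stalk (w q)) :=
    Module.compHom _ (algebraMap A (X.presheaf.stalk (w q)))
  haveI : IsScalarTower A (X.presheaf.stalk (w q)) (F.presheaf.stalk (w q)) :=
    .of_algebraMap_smul fun _ _ => rfl
  let E : (tilde M).presheaf.stalk q ≃ₗ[A] F.presheaf.stalk (w q) :=
    L.toLinearEquiv fun a x => by
      refine Eq.trans (congrArg (fun t => L t) ?_) (hL (algebraMap A (X.presheaf.stalk (w q)) a) x)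
      rw [← algebraMap_smul ((Spec A).presheaf.stalk q) a x]
      exact congrArg (fun t : (Spec A).presheaf.stalk q => t • x)
        (σ.apply_symm_apply (algebraMap A ((Spec A).presheaf.stalk q) a)).symm
  let f : M →ₗ[A] F.presheaf.stalk (w q) := E.toLinearMap.comp (tilde.toStalk M q).hom
  haveI : IsLocalizedModule q.asIdeal.primeCompl f :=
    IsLocalizedModule.of_linearEquiv q.asIdeal.primeCompl (tilde.toStalk M q).hom E
  exact h (X.presheaf.stalk (w q)) _ f

end Stalk

variable {X Y : Scheme.{u}} [IsNoetherian X] [IsNoetherian Y] {f : X ⟶ Y} [LocallyOfFiniteType f]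
  (c : DEt.Compactification f) [DCoh.HasRpush c.fbar]
  {hc : DCoh.RpushPreservesQCoh c.fbar} {a : DCoh.DQCoh Y ⥤ DCoh.DQCoh c.Xbar}
  (adj : DCoh.RpushQ c.fbar hc ⊣ a) {O : DCoh.DQCoh Y} (hO : Nonempty (O.obj ≅ DCoh.inD Y (Coh.structureModule Y)))
  [∀ (U V : Scheme.{u}) (j : U ⟶ V) [IsOpenImmersion j], PreservesFiniteLimits (Scheme.Modules.restrictFunctor j)]

include adj hO

/-- **`f^! O` over a Cohen–Macaulay point** -/
theorem lowest_S2_of_cm (x : X) (r : ℕ) (hCM : LocCoh.IsCohenMacaulayLocalRing (Y.presheaf.stalk (f x)))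
    (htr : ∀ Z : Set X, Z ∈ irreducibleComponents X → x ∈ Z → ∀ ξ : X, closure ({ξ} : Set X) = Z →
      Dual3.resTrdeg f ξ ≤ (r : Cardinal.{u})) :
    (∀ i : ℤ, Nontrivial ((DCoh.HD ((DQCoh.RD c.j).obj (a.obj O).obj) i).presheaf.stalk x) → -(r : ℤ) ≤ i) ∧
      LocCoh.HasSk 2 (X.presheaf.stalk x)
        ((DCoh.HD ((DQCoh.RD c.j).obj (a.obj O).obj) (-(r : ℤ))).presheaf.stalk x) := by
  haveI := fun (S T : Type u) [CommRing S] [CommRing T] (φ : S →+* T) => DRingKP.hasLBaseChange φ
  let bad : Set (Set X) := {Z ∈ irreducibleComponents X | x ∉ Z}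
  let W : X.Opens :=
    ⟨(⋃₀ bad)ᶜ, (by
      rw [Set.sUnion_eq_biUnion]
      exact (Set.Finite.isClosed_biUnion
        (TopologicalSpace.NoetherianSpace.finite_irreducibleComponents.subset fun Z hZ => hZ.1)
        fun Z hZ => isClosed_of_mem_irreducibleComponents Z hZ.1).isOpen_compl)⟩
  obtain ⟨R, A, _, _, _, _, _, n, ψ, v, hv, w, hwo, q₀, hψ, hq₀, hW, hw, -⟩ :=
    exists_chart f x (W := W) (show x ∈ (⋃₀ bad)ᶜ from fun ⟨Z, hZ, hxZ⟩ => hZ.2 hxZ)
  obtain ⟨Rψ, ⟨adjψ⟩⟩ := exists_adjoint ψ.toRingHom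
  have hr : ∀ q : PrimeSpectrum A, q.asIdeal ∈ minimalPrimes A →
      Dual3.resTrdeg (Spec.map (CommRingCat.ofHom (algebraMap R A))) q ≤ (r : Cardinal.{u}) := by
    intro q hq
    obtain ⟨Z, hZ, hqZ⟩ : ∃ Z, Z ∈ irreducibleComponents X ∧ closure ({w q} : Set X) ⊆ Z := by
      obtain ⟨Z, hZ, hle⟩ := exists_mem_irreducibleComponents_subset_of_isIrreducible _
        (isIrreducible_singleton (x := w q)).closure
      exact ⟨Z, hZ, hle⟩
    have hqZ' : w q ∈ Z := hqZ (subset_closure rfl)
    have hirr : IsIrreducible Z := hZ.1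
    have hgen : closure ({hirr.genericPoint} : Set X) = Z := by
      simp [hirr.closure_genericPoint, (isClosed_of_mem_irreducibleComponents Z hZ).closure_eq]
    have hsp : hirr.genericPoint ⤳ w q := specializes_iff_mem_closure.2 (hgen.symm ▸ hqZ')
    obtain ⟨q', hq'⟩ := hsp.mem_open w.opensRange.isOpen ⟨q, rfl⟩
    have hsp' : q' ⤳ q := w.isOpenEmbedding.isInducing.specializes_iff.1 (hq' ▸ hsp)
    have hqq : q' = q := by
      have hle : q'.asIdeal ≤ q.asIdeal := PrimeSpectrum.le_iff_specializes q' q |>.2 hsp'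
      exact PrimeSpectrum.ext (le_antisymm hle (hq.2 ⟨q'.isPrime, bot_le⟩ hle))
    subst hqq
    have hxZ : x ∈ Z := by
      by_contra hx
      exact hW ⟨q', rfl⟩ ⟨Z, ⟨hZ, hx⟩, hqZ'⟩
    have h2 := htr Z hZ hxZ (w q') (by rw [hq', hgen])
    rw [← SpQS.resTrdeg_precomp w f (w.quasiFiniteAt q')] at h2
    rw [← SpQS.resTrdeg_postcomp _ v (v.quasiFiniteAt _)]
    exact le_of_eq_of_le (by rw [hw]) h2
  subst hq₀
  haveI : LocCoh.IsCohenMacaulayLocalRing (Localization.AtPrime (q₀.asIdeal.under R)) := by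
    refine (DualSch.cm_stalk_iff v (Spec.map (CommRingCat.ofHom (algebraMap R A)) q₀)).1 ?_
    have e : v (Spec.map (CommRingCat.ofHom (algebraMap R A)) q₀) = f (w q₀) := congr($hw q₀)
    rw [e]
    exact hCM
  refine ⟨fun i hne => ?_, ?_⟩
  · by_contra hi
    have h1 := subsingleton_localized_shriek hψ adjψ hr q₀.asIdeal (i := i) (by omega)
    exact not_nontrivial_iff_subsingleton.2 h1 ((nontrivial_stalk_iff c adj hO hψ adjψ v w hw i q₀).1 hne)
  · obtain ⟨eω⟩ := nonempty_shriek_unit c adj hO hψ adjψ v w hw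
    obtain ⟨eH⟩ := DualSch.nonempty_restrict_HD w eω (-(r : ℤ))
    exact hasSk_stalk_of_chart (A := CommRingCat.of A) w q₀ eH 2 fun R' _ _ _ M' _ _ _ _ g _ =>
      hasSk_two_shriek hψ adjψ hr q₀.asIdeal R' M' g

end Groth.Agent.ShriekAffine
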