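import Groth.Agent.Shriek.SelfProps
import Groth.Agent.Shriek.FlatBound
import Groth.Agent.Shriek.NormVia
import Groth.Agent.ShriekAffine.Chart
import Groth.Agent.DualCx.Regular
import Groth.Agent.DualCx.LocD
import Groth.Agent.DualCx.Apps
import Groth.Agent.DRingKP.Amp
import Groth.Agent.DRingKP.BC
import Groth.Agent.DRingKP.Nilp
import Groth.Agent.CMChart.OverField
import Groth.Agent.CMFlat.BaseChange
import Groth.Agent.LocalDimBC.Scheme
import Groth.Agent.GrpdSlice.CM
import Groth.Agent.S1801

/-!
`φ^! R` of a flat map with equidimensional Cohen–Macaulay fibres sits in one degree and is flat.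
-/

set_option autoImplicit false
set_option backward.isDefEq.respectTransparency false
set_option backward.isDefEq.respectTransparency.types false
set_option linter.style.haveILetI false
set_option linter.unusedSectionVars false
set_option maxHeartbeats 1600000

universe u

open CategoryTheory Limits AlgebraicGeometry
open scoped TensorProduct

attribute [local instance] HasDerivedCategory.standard

namespace Groth.Agent.ShriekAffine

noncomputable section

/-- right exactness in the top degree -/
theorem subsingleton_tensor_top {A B : Type u} [CommRing A] [CommRing B] [Algebra A B]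
    [DRing.HasLBaseChange (algebraMap A B)] {K : Dual.D A} {i : ℤ}
    (hK : ∀ j : ℤ, i < j → Subsingleton (Dual.HD A K j))
    (h : Subsingleton (Dual.HD B ((DRing.LBaseChange (algebraMap A B)).obj K) i)) :
    Subsingleton (B ⊗[A] Dual.HD A K i) := by
  obtain ⟨P, hb, hP, ⟨e⟩⟩ := DRingKP.exists_proj_rep_top K i fun j hj =>
    haveI := hK j (by lia)
    ModuleCat.isZero_of_subsingleton _
  haveI := DRingKP.isKProjective_of_vanishesAbove hb hP
  let E := ModuleCat.extendScalars.{u, u, u} (algebraMap A B)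
  haveI : E.IsLeftAdjoint := (ModuleCat.extendRestrictScalarsAdj.{u, u, u} (algebraMap A B)).isLeftAdjoint
  let P' := (DRingKP.bc (algebraMap A B)).obj P
  have hd : P.d i (i + 1) = 0 := (hb (i + 1) (by lia)).eq_of_tgt _ _
  have hd' : P'.d i (i + 1) = 0 := by
    show E.map (P.d i (i + 1)) = 0
    rw [hd, Functor.map_zero]
  haveI := P.isIso_homologyι i (i + 1) (by simp) hd
  haveI := P'.isIso_homologyι i (i + 1) (by simp) hd'
  let hc := (P.opcyclesIsCokernel (i - 1) i (by simp))
  let hc' := CokernelCofork.mapIsColimit _ hc E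
  let eo : E.obj (P.opcycles i) ≅ P'.opcycles i :=
    hc'.coconePointUniqueUpToIso (P'.opcyclesIsCokernel (i - 1) i (by simp))
  let eh : E.obj ((DerivedCategory.homologyFunctor (ModuleCat.{u} A) i).obj K) ≅
      (DerivedCategory.homologyFunctor (ModuleCat.{u} B) i).obj ((DRing.LBaseChange (algebraMap A B)).obj K) :=
    E.mapIso (((DerivedCategory.homologyFunctor (ModuleCat.{u} A) i).mapIso e).symm ≪≫
        (DerivedCategory.homologyFunctorFactors (ModuleCat.{u} A) i).app P ≪≫ asIso (P.homologyι i)) ≪≫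
      eo ≪≫ (asIso (P'.homologyι i)).symm ≪≫
      ((DerivedCategory.homologyFunctorFactors (ModuleCat.{u} B) i).app P').symm ≪≫
      (DerivedCategory.homologyFunctor (ModuleCat.{u} B) i).mapIso
        ((DRingKP.lBaseChangeIso (algebraMap A B) P).symm ≪≫ (DRing.LBaseChange (algebraMap A B)).mapIso e)
  haveI := h
  exact ((DRingKP.extendTensorIso _).symm ≪≫ eh).toLinearEquiv.toEquiv.subsingleton

/-- `k` is a normalized dualizing complex of the field `k` -/
theorem normalized_field (k : Type u) [Field k] : Dual.IsNormalized k (Dual.inD k k) := fun i hi => by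
  haveI : LocCoh.IsGorensteinLocalRing k := Goren.isGorenstein_of_regular k
  exact (Linear.homCongr k (Iso.refl (Dual.inD k (IsLocalRing.ResidueField k)))
      ((shiftFunctor (Dual.D k) i).mapIso ((shiftFunctorZero (Dual.D k) ℤ).app (Dual.inD k k)))).toEquiv.subsingleton_congr.1
    ((DualCx.gorenstein_normalized (A := k) (r := 0) (by rw [ringKrullDim_eq_zero_of_field]; rfl)).2 i hi)

/-- over a field, at a Cohen–Macaulay closed point the dualizing complex is in degree `-dim` -/
theorem subsingleton_hd_field {k C : Type u} [Field k] [CommRing C] [IsNoetherianRing C] [Algebra k C] {n : ℕ}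
    {ψ : MvPolynomial (Fin n) k →ₐ[k] C} (hψ : Function.Surjective ψ) {W : Dual.D C}
    (h : Shriek.Shr ψ W (Dual.inD k k)) (m : Ideal C) [m.IsMaximal]
    (hCM : LocCoh.IsCohenMacaulayLocalRing (Localization.AtPrime m)) {d : ℕ}
    (hd : ringKrullDim (Localization.AtPrime m) = d) {i : ℤ} (hi : i ≠ -(d : ℤ)) :
    Subsingleton (LocalizedModule m.primeCompl (Dual.HD C W i)) := by
  haveI := fun (S T : Type u) [CommRing S] [CommRing T] (φ : S →+* T) => DRingKP.hasLBaseChange φ
  obtain ⟨Rψ, ⟨adj⟩⟩ := exists_adjoint ψ.toRingHom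
  obtain ⟨eW⟩ := Shriek.RA.unique (φ := ψ.toRingHom) (Shriek.shr_shriekVia ψ Rψ adj (Dual.inD k k)) h
  let L := Localization.AtPrime m
  haveI : m.comap (algebraMap k C) |>.IsPrime := Ideal.IsPrime.comap _
  obtain ⟨hω, hn⟩ := Shriek.shriekVia_normalized ψ hψ Rψ adj m
    (((Ideal.eq_bot_or_top _).resolve_right (Ideal.IsPrime.comap (algebraMap k C)).ne_top).trans
      IsLocalRing.maximalIdeal_eq_bot.symm)
    (Shriek.isDualizing_field k) (normalized_field k)
  let ω' := (DRing.LBaseChange (algebraMap C L)).obj (Dual2.shriekVia n Rψ (Dual.inD k k))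
  have hs : Module.supportDim L L = d := (Module.supportDim_self_eq_ringKrullDim (R := L)).trans hd
  have hT := (DualCx.isCohenMacaulay_iff_local hω hn (M := L) d hs).1 hCM.supportDim_eq_depth (-i) (by lia)
  rw [neg_neg] at hT
  haveI hH : Subsingleton (Dual.HD L ω' i) := (DualCx.homEquiv ω' i).toEquiv.subsingleton_congr.1 hT
  haveI : Module.Flat C L := IsLocalization.flat L m.primeCompl
  haveI : PreservesFiniteLimits (DualCx.ext (algebraMap C L)) :=
    ModuleCat.preservesFiniteLimits_extendScalars_of_flat (RingHom.flat_algebraMap_iff.2 inferInstance)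
  let e : ModuleCat.of L (L ⊗[C] Dual.HD C W i) ≅
      (DerivedCategory.homologyFunctor (ModuleCat.{u} L) i).obj ω' :=
    (DRingKP.extendTensorIso _).symm ≪≫
      (DualCx.ext (algebraMap C L)).mapIso ((DerivedCategory.homologyFunctor (ModuleCat.{u} C) i).mapIso eW.symm) ≪≫
      (DualCx.locHD (algebraMap C L) _ i).symm ≪≫
      (DerivedCategory.homologyFunctor (ModuleCat.{u} L) i).mapIso
        (DualCx.lBaseChangeObjIso (algebraMap C L) _).symm
  haveI : Subsingleton (L ⊗[C] Dual.HD C W i) := e.toLinearEquiv.toEquiv.subsingleton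
  exact (LocalizedModule.equivTensorProduct m.primeCompl (Dual.HD C W i)).toEquiv.subsingleton

/-- a module killed at all maximal ideals -/
theorem subsingleton_of_maximal {C M : Type u} [CommRing C] [AddCommGroup M] [Module C M]
    (h : ∀ (m : Ideal C) [m.IsMaximal], Subsingleton (LocalizedModule m.primeCompl M)) : Subsingleton M := by
  refine subsingleton_of_forall_eq 0 fun x => Module.eq_zero_of_localization_maximal
    (fun m _ => LocalizedModule m.primeCompl M) (fun m _ => LocalizedModule.mkLinearMap m.primeCompl M) x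
    fun m _ => @Subsingleton.elim _ (h m) _ _

variable {R A : Type u} [CommRing R] [CommRing A] [IsNoetherianRing R] [IsNoetherianRing A] [Algebra R A]
  [Module.Flat R A] {n : ℕ} {ψ : MvPolynomial (Fin n) R →ₐ[R] A} (hψ : Function.Surjective ψ)
  [DRing.HasLBaseChange (algebraMap R (MvPolynomial (Fin n) R))]
  {Rψ : Dual.D (MvPolynomial (Fin n) R) ⥤ Dual.D A} (adj : DRing.restrictD ψ.toRingHom ⊣ Rψ) {d : ℕ}
  (hCM : ∀ x : PrimeSpectrum A, MoreMor.IsCMAt (Spec.map (CommRingCat.ofHom (algebraMap R A))) x)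
  (hd : ∀ x : PrimeSpectrum A, FlatMor.fibreDimAt (Spec.map (CommRingCat.ofHom (algebraMap R A))) x = (d : WithBot ℕ∞))

include hψ adj hCM hd

/-- on a fibre `ω` is in degree `-d` -/
theorem subsingleton_hd_fibre (k : Type u) [Field k] [Algebra R k]
    [DRing.HasLBaseChange (Algebra.TensorProduct.includeRight : A →ₐ[R] k ⊗[R] A).toRingHom] {i : ℤ}
    (hi : i ≠ -(d : ℤ)) :
    Subsingleton (Dual.HD (k ⊗[R] A) ((DRing.LBaseChange (Algebra.TensorProduct.includeRight :
      A →ₐ[R] k ⊗[R] A).toRingHom).obj (Dual2.shriekVia n Rψ (Dual.inD R R))) i) := by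
  haveI : Algebra.FiniteType R A := Algebra.FiniteType.of_surjective ψ hψ
  haveI : Algebra.FinitePresentation R A := Algebra.FinitePresentation.of_finiteType.1 inferInstance
  haveI : IsNoetherianRing (k ⊗[R] A) := Algebra.FiniteType.isNoetherianRing k (k ⊗[R] A)
  obtain ⟨W, hW, ⟨eW⟩⟩ := DTenLib.exists_kFlat_rep (Dual2.shriekVia n Rψ (Dual.inD R R))
  have h1 : Shriek.Shr ψ (DerivedCategory.Q.obj W) (Dual.inD R R) :=
    Shriek.RA.of_iso (Shriek.shr_shriekVia ψ Rψ adj (Dual.inD R R)) eW.symm (Iso.refl _)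
  let e := (Shriek.lbcKFlatIso (Algebra.TensorProduct.includeRight : A →ₐ[R] k ⊗[R] A).toRingHom hW).symm ≪≫
    (DRing.LBaseChange _).mapIso eW
  haveI : Subsingleton (Dual.HD (k ⊗[R] A)
      (DerivedCategory.Q.obj ((DTen.extCx (Algebra.TensorProduct.includeRight : A →ₐ[R] k ⊗[R] A).toRingHom).obj W)) i) := ?_
  · exact ((DerivedCategory.homologyFunctor (ModuleCat.{u} (k ⊗[R] A)) i).mapIso
      e).toLinearEquiv.toEquiv.symm.subsingleton
  refine subsingleton_of_maximal (C := k ⊗[R] A) fun m _ => ?_
  have hs := Shriek.Shr.baseChange_self (R' := k) hψ hW h1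
  let g := Spec.map (CommRingCat.ofHom (algebraMap k (k ⊗[R] A)))
  let f := Spec.map (CommRingCat.ofHom (algebraMap R A))
  haveI : LocallyOfFiniteType f :=
    (HasRingHomProperty.Spec_iff (P := @LocallyOfFiniteType)).mpr (RingHom.finiteType_algebraMap.mpr inferInstance)
  haveI : LocallyOfFiniteType g :=
    (HasRingHomProperty.Spec_iff (P := @LocallyOfFiniteType)).mpr (RingHom.finiteType_algebraMap.mpr inferInstance)
  have sq := (isPullback_SpecMap_of_isPushout _ _ _ _ (CommRingCat.isPushout_tensorProduct R k A)).flip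
  let z : Spec (CommRingCat.of (k ⊗[R] A)) := ⟨m, inferInstance⟩
  haveI := GrpdSlice.isLocallyNoetherian_fiber f (Spec.map (CommRingCat.ofHom (algebraMap R k)) (g z))
  have hz : MoreMor.IsCMAt g z := CMFlat.isCMAt_baseChange sq z (Or.inr inferInstance) (hCM _)
  have hdz : FlatMor.fibreDimAt g z = (d : WithBot ℕ∞) := (LocalDimBC.fibreDimAt_of_isPullback f _ _ g sq z).trans (hd _)
  obtain ⟨b, δ, hb, hD, -, hδ⟩ := CMChart.localDim_field_eq g z
  rw [CMChart.fibreDimAt_eq_localDim, hD, hδ (PrimeSpectrum.isClosed_singleton_iff_isMaximal z |>.2 ‹_›),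
    add_zero] at hdz
  let el : Localization.AtPrime m ≃+* ((Spec (CommRingCat.of (k ⊗[R] A))).presheaf.stalk z : Type u) :=
    (StructureSheaf.stalkIso (CommRingCat.of (k ⊗[R] A)) z).toRingEquiv
  refine subsingleton_hd_field (Shriek.bcPres_surjective hψ) hs m
    (CMChart.isCohenMacaulayLocalRing_of_ringEquiv el.symm ((CMChart.isCMAt_iff_stalk g z).1 hz))
    ((ringKrullDim_eq_of_ringEquiv el).trans (hb.trans hdz)) hi

/-- **`ω` is in degree `-d`** -/
theorem subsingleton_hd_of_cm {i : ℤ} (hi : i ≠ -(d : ℤ)) :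
    Subsingleton (Dual.HD A (Dual2.shriekVia n Rψ (Dual.inD R R)) i) := by
  haveI := fun (S T : Type u) [CommRing S] [CommRing T] (φ : S →+* T) => DRingKP.hasLBaseChange φ
  haveI : Algebra.FinitePresentation R A := Algebra.FinitePresentation.of_finiteType.1
    (Algebra.FiniteType.of_surjective ψ hψ)
  have hW := Shriek.shr_shriekVia ψ Rψ adj (Dual.inD R R)
  rcases lt_or_gt_of_ne hi with hlt | hgt
  · exact subsingleton_of_maximal fun m _ => hW.subsingleton_loc_HD hψ ⟨m, inferInstance⟩ (hd _).le hlt
  obtain ⟨-, hfin, -⟩ := S1801.result R A n ψ hψ Rψ adj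
  suffices H : ∀ (t : ℕ) (j : ℤ), -(d : ℤ) < j → -(t : ℤ) < j →
      Subsingleton (Dual.HD A (Dual2.shriekVia n Rψ (Dual.inD R R)) j) from H d i hgt hgt
  intro t
  induction t with
  | zero => exact fun j _ hj => hW.subsingleton_HD_pos hψ (by simpa using hj)
  | succ t ih =>
    intro j hj hjt
    by_cases hjt' : -(t : ℤ) < j
    · exact ih j hj hjt'
    haveI := hfin j
    refine subsingleton_of_maximal (C := A) fun m _ => ?_
    let p : Ideal R := m.under R
    let F := p.ResidueField ⊗[R] A
    let ι : A →ₐ[R] F := Algebra.TensorProduct.includeRight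
    letI : Algebra A F := ι.toRingHom.toAlgebra
    haveI hF : Subsingleton (F ⊗[A] Dual.HD A (Dual2.shriekVia n Rψ (Dual.inD R R)) j) :=
      subsingleton_tensor_top (fun l hl => ih l (by lia) (by lia))
        (subsingleton_hd_fibre hψ adj hCM hd p.ResidueField (by lia))
    letI : Algebra p.ResidueField m.ResidueField := (Ideal.ResidueField.map p m (algebraMap R A) rfl).toAlgebra
    haveI : IsScalarTower R p.ResidueField m.ResidueField := IsScalarTower.of_algebraMap_eq fun r =>
      ((Ideal.ResidueField.map_algebraMap p m (algebraMap R A) rfl r).trans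
        (IsScalarTower.algebraMap_apply R A m.ResidueField r).symm).symm
    let g : F →ₐ[R] m.ResidueField := Algebra.TensorProduct.lift
      (IsScalarTower.toAlgHom R p.ResidueField m.ResidueField) (IsScalarTower.toAlgHom R A m.ResidueField)
      fun _ _ => Commute.all _ _
    letI : Algebra F m.ResidueField := g.toRingHom.toAlgebra
    haveI : IsScalarTower A F m.ResidueField := IsScalarTower.of_algebraMap_eq fun a =>
      ((Algebra.TensorProduct.lift_tmul _ _ _ (1 : p.ResidueField) a).trans (by rw [map_one, one_mul]; rfl)).symm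
    haveI hκ : Subsingleton (m.ResidueField ⊗[A] Dual.HD A (Dual2.shriekVia n Rψ (Dual.inD R R)) j) :=
      (TensorProduct.AlgebraTensorModule.cancelBaseChange A F F m.ResidueField
        (Dual.HD A (Dual2.shriekVia n Rψ (Dual.inD R R)) j)).toEquiv.symm.subsingleton
    refine (Module.notMem_support_iff (p := ⟨m, inferInstance⟩)).1 fun hm => ?_
    exact not_subsingleton_iff_nontrivial.2
      ((Module.mem_support_iff_nontrivial_residueField_tensorProduct ⟨m, inferInstance⟩).1 hm) hκ

/-- **`H^{-d} ω` is flat over the base** -/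
theorem flat_hd_of_cm :
    Module.Flat R ((ModuleCat.restrictScalars.{u} (algebraMap R A)).obj
      ((DerivedCategory.homologyFunctor (ModuleCat.{u} A) (-(d : ℤ))).obj (Dual2.shriekVia n Rψ (Dual.inD R R)))) := by
  haveI := fun (S T : Type u) [CommRing S] [CommRing T] (φ : S →+* T) => DRingKP.hasLBaseChange φ
  haveI : Algebra.FinitePresentation R A := Algebra.FinitePresentation.of_finiteType.1
    (Algebra.FiniteType.of_surjective ψ hψ)
  let res := ModuleCat.restrictScalars.{u} (algebraMap R A)
  have hW := Shriek.shr_shriekVia ψ Rψ adj (Dual.inD R R)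
  have h := DRingKP.amp_shrink (b' := -(d : ℤ)) (hW.amp hψ fun q => (hd q).le) fun j hj => by
    haveI := subsingleton_hd_of_cm hψ adj hCM hd (i := j) (by lia)
    exact (res.map_isZero (ModuleCat.isZero_of_subsingleton _)).of_iso
      ((DQCoh.homologyDerIso res j).app _)
  obtain ⟨E, hE, hf, ⟨e⟩⟩ := h
  haveI := hf (-(d : ℤ))
  have h1 : E.d (-(d : ℤ) - 1) (-(d : ℤ)) = 0 := (hE _ (Or.inl (by lia))).eq_of_src _ _
  have h2 : E.d (-(d : ℤ)) (-(d : ℤ) + 1) = 0 := (hE _ (Or.inr (by lia))).eq_of_tgt _ _
  haveI := E.isIso_homologyπ (-(d : ℤ) - 1) (-(d : ℤ)) (by simp) h1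
  haveI := E.isIso_iCycles (-(d : ℤ)) (-(d : ℤ) + 1) (by simp) h2
  exact Module.Flat.of_linearEquiv (((DQCoh.homologyDerIso res (-(d : ℤ))).app (Dual2.shriekVia n Rψ (Dual.inD R R))).symm ≪≫
    ((DerivedCategory.homologyFunctor (ModuleCat.{u} R) (-(d : ℤ))).mapIso e).symm ≪≫
    (DerivedCategory.homologyFunctorFactors (ModuleCat.{u} R) (-(d : ℤ))).app E ≪≫
    (asIso (E.homologyπ (-(d : ℤ)))).symm ≪≫ asIso (E.iCycles (-(d : ℤ)))).toLinearEquiv

end

end Groth.Agent.ShriekAffine
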