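import Groth.Agent.ShriekAffine.Semidual
import Groth.Agent.DualCx.LocD
import Groth.Agent.DualCx.LocGlobal
import Groth.Agent.DRingKP.TorAmp
import Groth.Agent.DRingKP.Amp
import Groth.Agent.InjFibre.Loc
import Groth.Prelude.Def_Dual3

/-!
A semidualizing module of finite tor dimension over the base of a flat ring map is flat over it.
-/

set_option autoImplicit false
set_option backward.isDefEq.respectTransparency false
set_option backward.isDefEq.respectTransparency.types false
set_option linter.style.haveILetI false
set_option linter.unusedSectionVars false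
set_option maxHeartbeats 1600000

universe u

open CategoryTheory Limits Pretriangulated DerivedCategory
open scoped TensorProduct

attribute [local instance] HasDerivedCategory.standard

namespace Groth.Agent.ShriekAffine

noncomputable section

variable {R A : Type u} [CommRing R] [CommRing A] [Algebra R A]

local notation "res" => ModuleCat.restrictScalars (algebraMap R A)

/-- restriction of a module in degree zero -/
def resInD (M : ModuleCat.{u} A) : (DRing.restrictD (algebraMap R A)).obj (Dual.inD A M) ≅
    Dual.inD R ((res).obj M) :=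
  ((ModuleCat.restrictScalars.{u} (algebraMap R A)).mapDerivedCategorySingleFunctor 0).app M

theorem amp_inD_of_flat (N : ModuleCat.{u} R) [Module.Flat R N] {a : ℤ} (ha : a ≤ 0) :
    DRing.HasTorAmplitudeIn R a 0 (Dual.inD R N) := by
  refine ⟨(HomologicalComplex.single (ModuleCat.{u} R) (ComplexShape.up ℤ) 0).obj N, fun i hi =>
    HomologicalComplex.isZero_single_obj_X _ _ _ i (by omega), fun i => ?_,
    ⟨((DerivedCategory.singleFunctorIsoCompQ (ModuleCat.{u} R) 0).app N).symm⟩⟩
  by_cases hi : i = 0
  · subst hi
    exact Module.Flat.of_linearEquiv (HomologicalComplex.singleObjXSelf (ComplexShape.up ℤ) 0 N).toLinearEquiv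
  · haveI := ModuleCat.subsingleton_of_isZero
      (HomologicalComplex.isZero_single_obj_X (ComplexShape.up ℤ) 0 N i hi)
    infer_instance

theorem flat_of_amp_zero {N : ModuleCat.{u} R} (h : DRing.HasTorAmplitudeIn R 0 0 (Dual.inD R N)) :
    Module.Flat R N := by
  obtain ⟨E, hE, hf, ⟨e⟩⟩ := h
  haveI := hf 0
  have h1 : E.d (-1) 0 = 0 := (hE _ (Or.inl (by omega))).eq_of_src _ _
  have h2 : E.d 0 1 = 0 := (hE _ (Or.inr (by omega))).eq_of_tgt _ _
  haveI := E.isIso_homologyπ (-1) 0 (by simp) h1
  haveI := E.isIso_iCycles 0 1 (by simp) h2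
  exact Module.Flat.of_linearEquiv (((DerivedCategory.singleFunctorCompHomologyFunctorIso (ModuleCat.{u} R) 0).app N).symm ≪≫
    ((DerivedCategory.homologyFunctor (ModuleCat.{u} R) 0).mapIso e).symm ≪≫
    (DerivedCategory.homologyFunctorFactors (ModuleCat.{u} R) 0).app E ≪≫
    (asIso (E.homologyπ 0)).symm ≪≫ asIso (E.iCycles 0)).toLinearEquiv

variable [IsNoetherianRing A] [Module.Flat R A]

/-- finite tor dimension gives a flat syzygy -/
theorem exists_syzFlat : ∀ (s : ℕ) (M : ModuleCat.{u} A), Module.Finite A M →
    DRing.HasTorAmplitudeIn R (-(s : ℤ)) 0 (Dual.inD R ((res).obj M)) → SyzFlat R s M := by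
  intro s
  induction s with
  | zero => exact fun M _ h => flat_of_amp_zero h
  | succ s ih =>
    intro M _ h
    obtain ⟨m, g, hg⟩ := Module.Finite.exists_fin' A M
    let S : ShortComplex (ModuleCat.{u} A) := ShortComplex.mk (ModuleCat.ofHom (LinearMap.ker g).subtype)
      (ModuleCat.ofHom g) (ModuleCat.hom_ext (LinearMap.ext fun x => x.2))
    have hex : Function.Exact (LinearMap.ker g).subtype g := LinearMap.exact_subtype_ker_map g
    have hS : S.ShortExact :=
      { exact := (ShortComplex.moduleCat_exact_iff S).2 fun z hz => (hex z).1 hz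
        mono_f := (ModuleCat.mono_iff_injective _).2 Subtype.val_injective
        epi_g := (ModuleCat.epi_iff_surjective _).2 hg }
    refine ⟨m, ModuleCat.of A (LinearMap.ker g), (LinearMap.ker g).subtype, g, Subtype.val_injective, hex, hg,
      ih _ inferInstance ?_⟩
    have hS' := hS.map_of_exact (res)
    haveI : Module.Flat R ((res).obj (ModuleCat.of A (Fin m → A))) := by
      haveI : Module.Flat R (Fin m → A) := Module.Flat.trans R A (Fin m → A)
      let l : (res).obj (ModuleCat.of A (Fin m → A)) ≃ₗ[R] (Fin m → A) :=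
        { toFun := fun x => x
          map_add' := fun _ _ => rfl
          map_smul' := fun r x => algebraMap_smul A r (show Fin m → A from x)
          invFun := fun x => x
          left_inv := fun _ => rfl
          right_inv := fun _ => rfl }
      exact Module.Flat.of_linearEquiv l
    have h0 := DRingKP.amp_obj₁ (a := -((s + 1 : ℕ) : ℤ)) (b := 0) hS'.singleTriangle hS'.singleTriangle_distinguished
      (by
        obtain ⟨E, hE, hf, he⟩ := amp_inD_of_flat ((res).obj (ModuleCat.of A (Fin m → A)))
          (a := -((s + 1 : ℕ) : ℤ) + 1) (by omega)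
        exact ⟨E, fun i hi => hE i (by omega), hf, he⟩) h
    rw [show -((s + 1 : ℕ) : ℤ) + 1 = -(s : ℤ) by omega] at h0
    refine DRingKP.amp_shrink h0 fun j hj => ?_
    exact DerivedCategory.isZero_of_isLE (Dual.inD R _) 0 j (by omega)

variable [IsNoetherianRing R]

omit [IsNoetherianRing R] [Module.Flat R A] in
theorem bijective_end_of_inD {M : Type u} [AddCommGroup M] [Module A M]
    (h : Function.Bijective fun a : A => a • 𝟙 (Dual.inD A M)) :
    Function.Bijective fun a : A => a • (LinearMap.id : M →ₗ[A] M) := by
  let F := DerivedCategory.singleFunctor (ModuleCat.{u} A) 0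
  refine ⟨fun a b hab => h.1 ?_, fun g => ?_⟩
  · show a • 𝟙 _ = b • 𝟙 _
    have h2 : a • 𝟙 (ModuleCat.of A M) = b • 𝟙 (ModuleCat.of A M) := ModuleCat.hom_ext hab
    have h3 := congrArg (fun t => F.map t) h2
    simp only [Functor.map_smul, CategoryTheory.Functor.map_id] at h3
    exact h3
  · obtain ⟨a, ha⟩ := h.2 (F.map (ModuleCat.ofHom g))
    refine ⟨a, ?_⟩
    have h1 : a • 𝟙 (ModuleCat.of A M) = ModuleCat.ofHom g := F.map_injective (by
      rw [Functor.map_smul, CategoryTheory.Functor.map_id]
      exact ha)
    exact congrArg ModuleCat.Hom.hom h1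

/-- **a semidualizing module of finite tor dimension over the base is flat over it** -/
theorem flat_of_semidual_inD (M : ModuleCat.{u} A) [Module.Finite A M]
    (hEnd : Function.Bijective fun a : A => a • 𝟙 (Dual.inD A M))
    (hExt : ∀ i : ℤ, i ≠ 0 → Subsingleton (Dual.inD A M ⟶ (Dual.inD A M)⟦i⟧)) {a : ℤ}
    (hamp : DRing.HasTorAmplitudeIn R a 0 ((DRing.restrictD (algebraMap R A)).obj (Dual.inD A M))) :
    Module.Flat R ((res).obj M) := by
  haveI := fun (S T : Type u) [CommRing S] [CommRing T] (φ : S →+* T) => DRingKP.hasLBaseChange φ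
  have hsyz : SyzFlat R (-a).toNat M := exists_syzFlat _ M ‹_› (by
    obtain ⟨E, hE, hf, he⟩ := DRingKP.amp_of_iso (resInD M) hamp
    exact ⟨E, fun i hi => hE i (by omega), hf, he⟩)
  letI : Module R M := Module.compHom M (algebraMap R A)
  haveI : IsScalarTower R A M := IsScalarTower.of_algebraMap_smul fun _ _ => rfl
  suffices hfl : Module.Flat R M by
    let l : (res).obj M ≃ₗ[R] M :=
      { toFun := fun x => x
        map_add' := fun _ _ => rfl
        map_smul' := fun _ _ => rfl
        invFun := fun x => x
        left_inv := fun _ => rfl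
        right_inv := fun _ => rfl }
    exact Module.Flat.of_linearEquiv l
  refine Module.flat_of_isLocalized_maximal (R := R) A M (fun P _ => LocalizedModule P.primeCompl M)
    (fun P _ => LocalizedModule.mkLinearMap P.primeCompl M) fun P _ => ?_
  let p := P.under R
  let Rp := Localization.AtPrime p
  let B := Localization.AtPrime P
  let N := LocalizedModule P.primeCompl M
  haveI : P.LiesOver p := ⟨rfl⟩
  letI : Algebra Rp B := Localization.AtPrime.algebraOfLiesOver p P
  haveI : IsLocalHom (algebraMap Rp B) := ⟨fun x hx => (inferInstance : IsLocalHom (Localization.localRingHom p P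
    (algebraMap R A) rfl)).map_nonunit x hx⟩
  haveI : Module.Flat R B := InjFibre.flat_localized P.primeCompl (Algebra.linearMap A B)
  haveI : Module.Flat Rp B := (Module.flat_iff_of_isLocalization Rp p.primeCompl B).2 ‹_›
  letI : Module Rp N := Module.compHom N (algebraMap Rp B)
  haveI : IsScalarTower Rp B N := IsScalarTower.of_algebraMap_smul fun _ _ => rfl
  haveI : IsScalarTower R Rp N := IsScalarTower.of_algebraMap_smul fun r x => by
    show algebraMap Rp B (algebraMap R Rp r) • x = r • x
    rw [← IsScalarTower.algebraMap_apply R Rp B, algebraMap_smul]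
  -- the derived endomorphisms localise
  haveI : Module.Flat A B := IsLocalization.flat B P.primeCompl
  haveI : PreservesFiniteLimits (DualCx.ext (algebraMap A B)) :=
    ModuleCat.preservesFiniteLimits_extendScalars_of_flat (RingHom.flat_algebraMap_iff.2 inferInstance)
  haveI : DualCx.IsLocMap (algebraMap A B) P.primeCompl := DualCx.isLocMap_algebraMap P.primeCompl
  have hfin : ∀ i : ℤ, Module.Finite A (Dual.HD A (Dual.inD A M) i) := fun i => by
    by_cases hi : i = 0
    · subst hi
      haveI : Module.Finite A ((𝟭 (ModuleCat.{u} A)).obj M) := inferInstanceAs (Module.Finite A M)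
      exact Module.Finite.equiv
        ((DerivedCategory.singleFunctorCompHomologyFunctorIso (ModuleCat.{u} A) 0).app M).toLinearEquiv.symm
    · haveI := DualCx.subsingleton_hd_inD (A := A) M hi
      infer_instance
  let e : (DualCx.locD (algebraMap A B)).obj (Dual.inD A M) ≅ Dual.inD B N :=
    DualCx.locInD (algebraMap A B) M ≪≫ (DerivedCategory.singleFunctor (ModuleCat.{u} B) 0).mapIso
      (DRingKP.extendTensorIso M ≪≫ (LocalizedModule.equivTensorProduct P.primeCompl M).symm.toModuleIso)
  have hEnd' : Function.Bijective fun b : B => b • (LinearMap.id : N →ₗ[B] N) := by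
    refine bijective_end_of_inD ⟨fun x y hxy => ?_, fun f => ?_⟩
    · obtain ⟨⟨c, s⟩, hs⟩ := IsLocalization.surj P.primeCompl (x - y)
      have hsu : IsUnit (algebraMap A B s) := IsLocalization.map_units B s
      have h1 : algebraMap A B c • 𝟙 ((DualCx.locD (algebraMap A B)).obj (Dual.inD A M)) = 0 := by
        have h2 : (x - y) • 𝟙 (Dual.inD B N) = 0 := by rw [sub_smul, sub_eq_zero]; exact hxy
        rw [show algebraMap A B c = algebraMap A B s * (x - y) from hs.symm.trans (mul_comm _ _), mul_smul,
          ← e.hom_inv_id, show (x - y) • (e.hom ≫ e.inv) = e.hom ≫ ((x - y) • 𝟙 _) ≫ e.inv by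
            rw [Linear.smul_comp, Category.id_comp, Linear.comp_smul], h2, zero_comp, comp_zero, smul_zero]
      rw [← DualCx.locD_smul_id] at h1
      obtain ⟨t, ht, hta⟩ := DualCx.exists_smul_eq_zero_of_locD (algebraMap A B) P.primeCompl 0 0 hfin _ h1
      have h2 : t * c = 0 := hEnd.1 (by
        show (t * c) • 𝟙 _ = (0 : A) • 𝟙 _
        rw [zero_smul, mul_smul, hta])
      have h4 : algebraMap A B c = 0 := (IsLocalization.map_units B (⟨t, ht⟩ : P.primeCompl)).mul_right_eq_zero.1
        ((map_mul _ t c).symm.trans ((congrArg _ h2).trans (map_zero _)))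
      exact sub_eq_zero.1 (hsu.mul_left_eq_zero.1 (hs.trans h4))
    · obtain ⟨s, hs, g, hg⟩ := DualCx.exists_locD_map_eq (algebraMap A B) P.primeCompl 0 0 hfin (e.hom ≫ f ≫ e.inv)
      obtain ⟨c, rfl⟩ := hEnd.2 g
      have hsu : IsUnit (algebraMap A B s) := IsLocalization.map_units B (⟨s, hs⟩ : P.primeCompl)
      refine ⟨↑hsu.unit⁻¹ * algebraMap A B c, ?_⟩
      have h1 : (↑hsu.unit⁻¹ * algebraMap A B c) • 𝟙 _ = e.hom ≫ f ≫ e.inv := by
        rw [mul_smul, ← DualCx.locD_smul_id, ← hg, smul_smul, IsUnit.val_inv_mul, one_smul]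
      show (↑hsu.unit⁻¹ * algebraMap A B c) • 𝟙 _ = f
      rw [← e.inv_hom_id, show (↑hsu.unit⁻¹ * algebraMap A B c) • (e.inv ≫ e.hom) =
        e.inv ≫ ((↑hsu.unit⁻¹ * algebraMap A B c) • 𝟙 _) ≫ e.hom by
          rw [Linear.smul_comp, Category.id_comp, Linear.comp_smul], h1]
      simp
  have hExt' : ∀ i : ℕ, 1 ≤ i →
      Subsingleton (Abelian.Ext (ModuleCat.of B N) (ModuleCat.of B N) i) := fun i hi => by
    refine (Abelian.Ext.homLinearEquiv (R := B) (X := ModuleCat.of B N) (Y := ModuleCat.of B N)
      (n := i)).toEquiv.subsingleton_congr.2 ?_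
    haveI := hExt (i : ℤ) (by omega)
    refine subsingleton_of_forall_eq 0 fun f => ?_
    let eI := ((DualCx.locD (algebraMap A B)).commShiftIso (i : ℤ)).app (Dual.inD A M) ≪≫
      (shiftFunctor (Dual.D B) (i : ℤ)).mapIso e
    haveI : ((Dual.inD A M)⟦(i : ℤ)⟧).IsGE (-(i : ℤ)) :=
      DerivedCategory.TStructure.t.isGE_shift (Dual.inD A M) 0 (i : ℤ) _ (by omega)
    obtain ⟨s, hs, g, hg⟩ := DualCx.exists_locD_map_eq (algebraMap A B) P.primeCompl 0 (-(i : ℤ)) hfin
      (e.hom ≫ f ≫ eI.inv)
    rw [Subsingleton.elim g 0, Functor.map_zero] at hg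
    have h1 : e.hom ≫ f ≫ eI.inv = 0 :=
      ((IsLocalization.map_units B (⟨s, hs⟩ : P.primeCompl)).smul_left_cancel).1 (hg.trans (smul_zero _).symm)
    exact (cancel_mono eI.inv).1 ((cancel_epi e.hom).1 (by rw [h1, zero_comp, comp_zero]))
  -- the syzygies localise
  have key : ∀ (t : ℕ) (L : ModuleCat.{u} A), SyzFlat R t L → SyzFlat Rp t (ModuleCat.of B
      (LocalizedModule P.primeCompl L)) := by
    intro t
    induction t with
    | zero =>
      intro L hL
      letI : Module R L := Module.compHom L (algebraMap R A)
      haveI : IsScalarTower R A L := IsScalarTower.of_algebraMap_smul fun _ _ => rfl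
      haveI hflL : Module.Flat R ((res).obj L) := hL
      let lA : (res).obj L ≃ₗ[R] L :=
        { toFun := fun x => x
          map_add' := fun _ _ => rfl
          map_smul' := fun _ _ => rfl
          invFun := fun x => x
          left_inv := fun _ => rfl
          right_inv := fun _ => rfl }
      haveI : Module.Flat R L := @Module.Flat.of_linearEquiv _ _ _ _ _ _ _ _ hflL lA.symm
      let T := LocalizedModule P.primeCompl L
      haveI : Module.Flat R T := InjFibre.flat_localized P.primeCompl (LocalizedModule.mkLinearMap P.primeCompl L)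
      letI : Module Rp T := Module.compHom T (algebraMap Rp B)
      haveI : IsScalarTower R Rp T := IsScalarTower.of_algebraMap_smul fun r x => by
        show algebraMap Rp B (algebraMap R Rp r) • x = r • x
        rw [← IsScalarTower.algebraMap_apply R Rp B, algebraMap_smul]
      haveI : Module.Flat Rp T := (Module.flat_iff_of_isLocalization Rp p.primeCompl T).2 ‹_›
      let lB : (ModuleCat.restrictScalars.{u} (algebraMap Rp B)).obj (ModuleCat.of B T) ≃ₗ[Rp] T :=
        { toFun := fun x => x
          map_add' := fun _ _ => rfl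
          map_smul' := fun _ _ => rfl
          invFun := fun x => x
          left_inv := fun _ => rfl
          right_inv := fun _ => rfl }
      exact Module.Flat.of_linearEquiv lB
    | succ t iht =>
      rintro L ⟨m, K, f, g, hf, hex, hg, hK⟩
      let iK := LocalizedModule.mkLinearMap P.primeCompl K
      let iL := LocalizedModule.mkLinearMap P.primeCompl L
      let iF : (Fin m → A) →ₗ[A] (Fin m → B) := (Algebra.linearMap A B).compLeft (Fin m)
      haveI : IsLocalizedModule P.primeCompl iF :=
        (isLocalizedModule_iff_isBaseChange P.primeCompl B iF).2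
          (IsBaseChange.finitePow (Fin m) (IsBaseChange.linearMap A B))
      refine ⟨m, ModuleCat.of B (LocalizedModule P.primeCompl K),
        (IsLocalizedModule.map P.primeCompl iK iF f).extendScalarsOfIsLocalization P.primeCompl B,
        (IsLocalizedModule.map P.primeCompl iF iL g).extendScalarsOfIsLocalization P.primeCompl B,
        IsLocalizedModule.map_injective P.primeCompl iK iF f hf,
        IsLocalizedModule.map_exact P.primeCompl iK iF iL f g hex,
        IsLocalizedModule.map_surjective P.primeCompl iF iL g hg, iht K hK⟩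
  haveI hNfl : Module.Flat Rp N := flat_of_semidualizing (R := Rp) N hEnd' hExt' (key _ M hsyz)
  exact (Module.flat_iff_of_isLocalization Rp p.primeCompl N).1 hNfl

end

end Groth.Agent.ShriekAffine
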