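import Groth.Agent.ShriekAffine.OmegaFree
import Groth.Agent.LCIShriek.Local
import Groth.Agent.DCohShriek.AffineAdjoint
import Groth.Agent.DCohShriek.AdjointShift
import Groth.Agent.TildeKFlat.Lpull
import Groth.Prelude.Def_DualSh

/-!
**`f^!` on affine charts is the ring level `φ^!`.**
-/

set_option autoImplicit false
set_option backward.isDefEq.respectTransparency false
set_option backward.isDefEq.respectTransparency.types false
set_option linter.style.haveILetI false
set_option linter.unusedSectionVars false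
set_option maxHeartbeats 1600000

universe u

open CategoryTheory Limits AlgebraicGeometry

attribute [local instance] HasDerivedCategory.standard

namespace Groth.Agent.ShriekAffine

open Groth.Agent.DQCoh (RD rdComp rdCongr)
open Groth.Agent.PerfGen Groth.Agent.DCohShriek

/-- `f^!` of a morphism of affine schemes through a presentation -/
theorem nonempty_shriek_spec {R A : Type u} [CommRing R] [CommRing A] [IsNoetherianRing R] [IsNoetherianRing A]
    [Algebra R A] (n : ℕ) (ψ : MvPolynomial (Fin n) R →ₐ[R] A) (hψ : Function.Surjective ψ)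
    [DRing.HasLBaseChange (algebraMap R (MvPolynomial (Fin n) R))]
    {Rψ : Dual.D (MvPolynomial (Fin n) R) ⥤ Dual.D A} (adjψ : DRing.restrictD ψ.toRingHom ⊣ Rψ)
    (c : DEt.Compactification (Spec.map (CommRingCat.ofHom (algebraMap R A)))) [DCoh.HasRpush c.fbar]
    {hc : DCoh.RpushPreservesQCoh c.fbar}
    {a : DCoh.DQCoh (Spec (CommRingCat.of R)) ⥤ DCoh.DQCoh c.Xbar} (adj : DCoh.RpushQ c.fbar hc ⊣ a)
    (K : (Dual3.IsBddBelowQ (Spec (CommRingCat.of R))).FullSubcategory) (M : Dual.D R)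
    (eK : K.obj.obj ≅ (DCoh.tildeD (CommRingCat.of R)).obj M) :
    Nonempty ((RD c.j).obj (a.obj K.obj).obj ≅
      (DCoh.tildeD (CommRingCat.of A)).obj (Dual2.shriekVia n Rψ M)) := by
  let D := MvPolynomial (Fin n) R
  let p := polyMap R n
  let i : Spec (CommRingCat.of A) ⟶ Spec (CommRingCat.of D) := Spec.map (CommRingCat.ofHom ψ.toRingHom)
  haveI : IsClosedImmersion i := IsClosedImmersion.spec_of_surjective _ hψ
  haveI hp := LCIShriek.smoothRelDim_spec (CommRingCat.of R) n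
  haveI : Smooth p := SmoothOfRelativeDimension.smooth n p
  have hfac : i ≫ p = Spec.map (CommRingCat.ofHom (algebraMap R A)) := by
    rw [← Spec.map_comp, ← CommRingCat.ofHom_comp]
    congr 2
    exact ψ.comp_algebraMap
  haveI : QuasiCompact p := quasiCompact_of_compactSpace _
  obtain ⟨Pbar, j, pb, hj, -, hpb, hjp⟩ := Nagata.exists_compactification p
  let cp : DEt.Compactification p := ⟨Pbar, j, pb, hj, hpb, hjp⟩
  let ct : DEt.Compactification (i ≫ p) := ⟨c.Xbar, c.j, c.fbar, inferInstance, inferInstance, c.fac.trans hfac.symm⟩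
  let cI : DEt.Compactification i :=
    ⟨Spec (CommRingCat.of A), 𝟙 _, i, inferInstance, inferInstance, Category.id_comp i⟩
  haveI := isNoetherian_of_proper cp.fbar
  haveI := DerPush.hasRpush_sch cp.fbar
  haveI : DCoh.HasRpush i := DerPush.hasRpush_sch i
  haveI : DCoh.HasRpush cI.fbar := DerPush.hasRpush_sch i
  haveI : DCoh.HasRpush ct.fbar := ‹DCoh.HasRpush c.fbar›
  haveI := KFlat.hasLpull p
  have hp' : DCoh.RpushPreservesQCoh cp.fbar := fun E hE => DQPush.isQCohD_rpush cp.fbar hE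
  have hq : DCoh.RpushPreservesQCoh i := fun E hE => DQPush.isQCohD_rpush i hE
  have hqI : DCoh.RpushPreservesQCoh cI.fbar := hq
  haveI := isLeftAdjoint_rpushQ cp.fbar hp'
  haveI := isLeftAdjoint_rpushQ i hq
  let adjp := Adjunction.ofIsLeftAdjoint (DCoh.RpushQ cp.fbar hp')
  let d := (DCoh.RpushQ i hq).rightAdjoint
  let adjd : DCoh.RpushQ i hq ⊣ d := Adjunction.ofIsLeftAdjoint _
  obtain ⟨ec⟩ := nonempty_shriek_comp (hf := hqI) (hgf := hc) cI cp ct (a := d) (c := a) adjd adjp adj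
  obtain ⟨eΩ⟩ := nonempty_omega_free R n
  obtain ⟨ep⟩ := LCIShriek.nonempty_shriek_smooth_free n eΩ cp adjp
  haveI : PreservesFiniteLimits (tilde.functor (CommRingCat.of R)) := inferInstance
  obtain ⟨et⟩ := TildeKFlat.nonempty_lpull_tildeD (algebraMap R D)
  let N := (DRing.LBaseChange (algebraMap R D)).obj M
  let G : DCoh.DQCoh (Spec (CommRingCat.of D)) := (rdQ cp.j).obj (((DCoh.RpushQ cp.fbar hp').rightAdjoint).obj K.obj)
  let eG : G.obj ≅ ((tildeQ D).obj N).obj⟦(n : ℤ)⟧ :=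
    ep.app K ≪≫ (shiftFunctor _ (n : ℤ)).mapIso ((DCoh.Lpull p).mapIso eK ≪≫ (et.app M).symm)
  obtain ⟨es⟩ := nonempty_adjoint_shift adjd ((tildeQ D).obj N) G (n : ℤ) eG
  obtain ⟨ea⟩ := nonempty_adjoint_tilde ψ.toRingHom adjd adjψ N
  exact ⟨ec.app K ≪≫ (rdId _).app (d.obj G).obj ≪≫ es ≪≫
    (shiftFunctor _ (n : ℤ)).mapIso ((ObjectProperty.ι _).mapIso ea.symm) ≪≫
    (((DCoh.tildeD (CommRingCat.of A)).commShiftIso (n : ℤ)).app _).symm⟩

variable {X Y : Scheme.{u}}

/-- the twisted inverse image on an affine chart -/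
theorem nonempty_shriek_chart [IsNoetherian X] [IsNoetherian Y] {f : X ⟶ Y} (c : DEt.Compactification f)
    [DCoh.HasRpush c.fbar] {hc : DCoh.RpushPreservesQCoh c.fbar} {a : DCoh.DQCoh Y ⥤ DCoh.DQCoh c.Xbar}
    (adj : DCoh.RpushQ c.fbar hc ⊣ a) {R A : Type u} [CommRing R] [CommRing A] [IsNoetherianRing R]
    [IsNoetherianRing A] [Algebra R A] (n : ℕ) (ψ : MvPolynomial (Fin n) R →ₐ[R] A) (hψ : Function.Surjective ψ)
    [DRing.HasLBaseChange (algebraMap R (MvPolynomial (Fin n) R))]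
    {Rψ : Dual.D (MvPolynomial (Fin n) R) ⥤ Dual.D A} (adjψ : DRing.restrictD ψ.toRingHom ⊣ Rψ)
    (v : Spec (CommRingCat.of R) ⟶ Y) [IsOpenImmersion v] (w : Spec (CommRingCat.of A) ⟶ X) [IsOpenImmersion w]
    (hw : Spec.map (CommRingCat.ofHom (algebraMap R A)) ≫ v = w ≫ f)
    (K : (Dual3.IsBddBelowQ Y).FullSubcategory) (M : Dual.D R)
    (eK : (RD v).obj K.obj.obj ≅ (DCoh.tildeD (CommRingCat.of R)).obj M) :
    Nonempty ((RD w).obj ((RD c.j).obj (a.obj K.obj).obj) ≅
      (DCoh.tildeD (CommRingCat.of A)).obj (Dual2.shriekVia n Rψ M)) := by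
  let q := Spec.map (CommRingCat.ofHom (algebraMap R A))
  haveI : LocallyOfFiniteType q := by
    rw [HasRingHomProperty.Spec_iff (P := @LocallyOfFiniteType)]
    exact RingHom.finiteType_algebraMap.2 (Algebra.FiniteType.of_surjective ψ hψ)
  haveI : QuasiCompact v := quasiCompact_of_compactSpace _
  haveI : QuasiCompact q := quasiCompact_of_compactSpace _
  obtain ⟨Qbar, j, qb, hj, -, hqb, hjq⟩ := Nagata.exists_compactification q
  let cq : DEt.Compactification q := ⟨Qbar, j, qb, hj, hqb, hjq⟩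
  obtain ⟨cv, -, -, -, -⟩ := Compactif.exists_compactification (f := v) (𝟙 Y) v (Category.comp_id v)
  haveI : QuasiCompact w := quasiCompact_of_compactSpace _
  haveI := isNoetherian_of_proper c.fbar
  haveI : QuasiCompact (w ≫ c.j) := quasiCompact_of_compactSpace _
  haveI := isNoetherian_of_proper c.fbar
  obtain ⟨c', -, -, -, -⟩ := Compactif.exists_compactification (f := w ≫ f) c.fbar (w ≫ c.j)
    (by rw [Category.assoc, c.fac])
  let ct : DEt.Compactification (q ≫ v) := ⟨c'.Xbar, c'.j, c'.fbar, inferInstance, inferInstance, c'.fac.trans hw.symm⟩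
  haveI := isNoetherian_of_proper cq.fbar
  haveI := isNoetherian_of_proper cv.fbar
  haveI := isNoetherian_of_proper c'.fbar
  haveI := DerPush.hasRpush_sch cq.fbar
  haveI := DerPush.hasRpush_sch cv.fbar
  haveI : DCoh.HasRpush c'.fbar := DerPush.hasRpush_sch c'.fbar
  haveI : DCoh.HasRpush ct.fbar := DerPush.hasRpush_sch c'.fbar
  have hcq : DCoh.RpushPreservesQCoh cq.fbar := fun E hE => DQPush.isQCohD_rpush cq.fbar hE
  have hcv : DCoh.RpushPreservesQCoh cv.fbar := fun E hE => DQPush.isQCohD_rpush cv.fbar hE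
  have hc' : DCoh.RpushPreservesQCoh c'.fbar := fun E hE => DQPush.isQCohD_rpush c'.fbar hE
  haveI := isLeftAdjoint_rpushQ cq.fbar hcq
  haveI := isLeftAdjoint_rpushQ cv.fbar hcv
  haveI := isLeftAdjoint_rpushQ c'.fbar hc'
  let adjq := Adjunction.ofIsLeftAdjoint (DCoh.RpushQ cq.fbar hcq)
  let adjv := Adjunction.ofIsLeftAdjoint (DCoh.RpushQ cv.fbar hcv)
  let adj' := Adjunction.ofIsLeftAdjoint (DCoh.RpushQ c'.fbar hc')
  obtain ⟨e₁⟩ := LCIShriek.nonempty_RD_comp_shriek w c c' adj adj' K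
  obtain ⟨e₂⟩ := nonempty_shriek_comp (hgf := hc') cq cv ct adjq adjv adj'
  obtain ⟨eo⟩ := nonempty_shriek_openImmersion cv adjv
  let G : (Dual3.IsBddBelowQ (Spec (CommRingCat.of R))).FullSubcategory :=
    ⟨(rdQ cv.j).obj (((DCoh.RpushQ cv.fbar hcv).rightAdjoint).obj K.obj), LCIShriek.isBdd_shriek cv adjv K⟩
  obtain ⟨e₃⟩ := nonempty_shriek_spec n ψ hψ adjψ cq adjq G M (eo.app K ≪≫ eK)
  exact ⟨e₁ ≪≫ e₂.app K ≪≫ e₃⟩

end Groth.Agent.ShriekAffine
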