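import Groth.Agent.LCIShriek.Chart
import Groth.Agent.OmegaLib.Smooth
import Groth.Agent.OmegaLib.FiniteType

/-!
Differentials of affine space over an affine scheme are free.
-/

set_option autoImplicit false
set_option backward.isDefEq.respectTransparency false
set_option backward.isDefEq.respectTransparency.types false
set_option linter.style.haveILetI false
set_option maxHeartbeats 800000

universe u

open CategoryTheory Limits AlgebraicGeometry
open scoped TensorProduct

namespace Groth.Agent.ShriekAffine

/-- `Spec` of a polynomial ring over `Spec R` -/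
noncomputable abbrev polyMap (R : Type u) [CommRing R] (n : ℕ) :
    Spec (CommRingCat.of (MvPolynomial (Fin n) R)) ⟶ Spec (CommRingCat.of R) :=
  Spec.map (CommRingCat.ofHom (algebraMap R (MvPolynomial (Fin n) R)))

theorem nonempty_omega_free (R : Type u) [CommRing R] (n : ℕ) :
    Nonempty (Omega.sheaf (polyMap R n) ≅
      FlatMod.freeMod (Spec (CommRingCat.of (MvPolynomial (Fin n) R))) n) := by
  let g := polyMap R n
  haveI hg := LCIShriek.smoothRelDim_spec (CommRingCat.of R) n
  haveI : Smooth g := SmoothOfRelativeDimension.smooth n g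
  haveI : QuasiSeparated g := inferInstance
  have hd := OmegaLib.isUniversal_dOmega g
  let e : (⊤ : (Spec (CommRingCat.of (MvPolynomial (Fin n) R))).Opens) ≤ g ⁻¹ᵁ ⊤ := le_top
  letI := (g.appLE ⊤ ⊤ e).hom.toAlgebra
  have hss : RingHom.IsStandardSmoothOfRelativeDimension n (g.appLE ⊤ ⊤ e).hom := by
    have h : (g.appLE ⊤ ⊤ e) = g.appTop := g.app_eq_appLE.symm
    rw [h]
    refine (RingHom.RespectsIso.arrow_mk_iso_iff RingHom.isStandardSmoothOfRelativeDimension_respectsIso
      (arrowIsoΓSpecOfIsAffine (CommRingCat.ofHom (algebraMap R (MvPolynomial (Fin n) R))))).1 ?_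
    haveI := RGDev.smoothRelDim_mvPolynomial R n
    exact (RingHom.isStandardSmoothOfRelativeDimension_algebraMap n).2
      (Algebra.IsStandardSmoothOfRelativeDimension.of_algEquiv n (MvPolynomial.renameEquiv R Equiv.ulift))
  haveI : Algebra.IsStandardSmoothOfRelativeDimension n Γ(Spec (CommRingCat.of R), ⊤)
      Γ(Spec (CommRingCat.of (MvPolynomial (Fin n) R)), ⊤) := hss
  haveI := Algebra.IsStandardSmoothOfRelativeDimension.isStandardSmooth n
    (R := Γ(Spec (CommRingCat.of R), ⊤)) (S := Γ(Spec (CommRingCat.of (MvPolynomial (Fin n) R)), ⊤))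
  obtain ⟨L, -⟩ := OmegaLib.exists_linearEquiv hd e (isAffineOpen_top _) (isAffineOpen_top _)
  let B := Γ(Spec (CommRingCat.of (MvPolynomial (Fin n) R)), ⊤)
  let M := Γ(Omega.sheaf g, ⊤)
  obtain ⟨b⟩ : Nonempty (Module.Basis (ULift.{u} (Fin n)) B M) := by
    rcases subsingleton_or_nontrivial B with hB | hB
    · haveI : Subsingleton M := Module.subsingleton B M
      exact ⟨Module.Basis.ofRepr (LinearEquiv.ofSubsingleton M _)⟩
    · haveI : Module.Finite B M := Module.Finite.equiv L.symm
      haveI : Module.Free B M := Module.Free.of_equiv L.symm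
      have hrank : Module.finrank B M = n := by
        rw [L.finrank_eq]
        exact Module.finrank_eq_of_rank_eq
          (Algebra.IsStandardSmoothOfRelativeDimension.rank_kaehlerDifferential n)
      exact ⟨(Module.finBasisOfFinrankEq B M hrank).reindex Equiv.ulift.symm⟩
  haveI : (Omega.sheaf g).IsQuasicoherent := OmegaLib.isQCoh_of_isUniversal hd
  obtain ⟨i⟩ := OmegaLib.exists_iso_free_of_basis (isAffineOpen_top _) b
  let T := (Spec (CommRingCat.of (MvPolynomial (Fin n) R))).topIso
  exact ⟨(Scheme.Modules.restrictFunctorId.app _).symm ≪≫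
    ((Scheme.Modules.restrictFunctorCongr T.inv_hom_id.symm).app _) ≪≫
    (Scheme.Modules.restrictFunctorComp T.inv T.hom).app _ ≪≫
    (Scheme.Modules.restrictFunctor T.inv).mapIso i ≪≫
    (Scheme.Modules.restrictFunctorIsoPullback T.inv).app _ ≪≫ DerPerf.pullFreeIso T.inv n⟩

end Groth.Agent.ShriekAffine
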