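import Groth.Agent.Shriek.SelfProps
import Groth.Agent.DualCx.FiniteMap
import Groth.Agent.DualCx.GorCriterion
import Groth.Agent.PerfLocal.Perfect
import Groth.Agent.PCMor.Ring
import Groth.Agent.WContr.DCDerived

/-!
`φ^!` of a perfect ring map preserves bounded objects with finite cohomology, and `φ^! R` is rigid.
-/

set_option autoImplicit false
set_option backward.isDefEq.respectTransparency false
set_option linter.style.haveILetI false
set_option linter.unusedSectionVars false
set_option maxHeartbeats 1000000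

universe u

open CategoryTheory Limits

attribute [local instance] HasDerivedCategory.standard

namespace Groth.Agent.ShriekAffine

open Groth.Agent.DualCx Groth.Agent.DualFlat

variable {R A : Type u} [CommRing R] [CommRing A] [Algebra R A] {n : ℕ} {ψ : MvPolynomial (Fin n) R →ₐ[R] A}

/-- a perfect ring map is perfect over any presentation -/
theorem isPerfectModule_of_pf (hψ : Function.Surjective ψ) (hf : PCMor.Pf (algebraMap R A)) :
    letI := ψ.toRingHom.toAlgebra
    DRing.IsPerfectModule (MvPolynomial (Fin n) R) A :=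
  hf.pfHom (φ := ψ.toRingHom) hψ ψ.comp_algebraMap

/-- rigidity -/
theorem rigid_of_pf (hψ : Function.Surjective ψ) (hf : PCMor.Pf (algebraMap R A))
    [DRing.HasLBaseChange (algebraMap R (MvPolynomial (Fin n) R))]
    {Rψ : Dual.D (MvPolynomial (Fin n) R) ⥤ Dual.D A} (adj : DRing.restrictD ψ.toRingHom ⊣ Rψ) :
    Function.Bijective (fun a : A => a • 𝟙 (Dual2.shriekVia n Rψ (Dual.inD R R))) ∧
      ∀ i : ℤ, i ≠ 0 → Subsingleton (Dual2.shriekVia n Rψ (Dual.inD R R) ⟶
        (Dual2.shriekVia n Rψ (Dual.inD R R))⟦i⟧) := by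
  obtain ⟨eP⟩ := Shriek.polyD_self R n
  exact Shriek.end_self ψ.toRingHom hψ (isPerfectModule_of_pf hψ hf) _
    (Shriek.RA.of_iso (Shriek.shr_shriekVia ψ Rψ adj (Dual.inD R R)) (Iso.refl _)
      ((shiftFunctor _ (n : ℤ)).mapIso eP))

/-- maps out of a bounded complex of projectives -/
theorem subsingleton_hom_of_isLE {P : Type u} [CommRing P] {F : DRing.Cx P} {a b : ℤ}
    (hF : DRing.VanishesOutside F a b) (hp : DRing.TermwiseFiniteProjective F) (L : Dual.D P) (m : ℤ) [L.IsLE m]
    (hm : m < a) : Subsingleton (DRing.toD F ⟶ L) := by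
  haveI : F.IsKProjective := by
    haveI : F.IsStrictlyLE b := (CochainComplex.isStrictlyLE_iff F b).2 fun i hi => hF i (Or.inr hi)
    haveI : ∀ i, Projective (F.X i) := fun i => by
      haveI := (hp i).2
      infer_instance
    exact CochainComplex.isKProjective_of_projective F b
  obtain ⟨K, hK, ⟨e⟩⟩ := DerivedCategory.exists_iso_Q_obj_of_isLE L m
  haveI := hK
  have h0 : ∀ α : DRing.toD F ⟶ DRing.toD K, α = 0 := fun α => by
    obtain ⟨f, rfl⟩ := PerfLocal.exists_lift α
    have : f = 0 := HomologicalComplex.hom_ext _ _ fun i => by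
      by_cases hi : i < a
      · exact (hF i (Or.inl hi)).eq_of_src _ _
      · exact (K.isZero_of_isStrictlyLE m i (by omega)).eq_of_tgt _ _
    rw [this]
    exact DerivedCategory.Q.map_zero _ _
  exact ⟨fun α β => (cancel_mono e.hom).1 ((h0 _).trans (h0 _).symm)⟩

/-- **`φ^!` of a bounded object with finite cohomology** -/
theorem shriekVia_bounded [IsNoetherianRing R] (hψ : Function.Surjective ψ) (hf : PCMor.Pf (algebraMap R A))
    [DRing.HasLBaseChange (algebraMap R (MvPolynomial (Fin n) R))]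
    {Rψ : Dual.D (MvPolynomial (Fin n) R) ⥤ Dual.D A} (adj : DRing.restrictD ψ.toRingHom ⊣ Rψ)
    {M : Dual.D R} {lo hi : ℤ} (hb : ∀ i : ℤ, (i < lo ∨ hi < i) → Subsingleton (Dual.HD R M i))
    (hfin : ∀ i : ℤ, Module.Finite R (Dual.HD R M i)) :
    (∃ lo' hi' : ℤ, ∀ i : ℤ, (i < lo' ∨ hi' < i) → Subsingleton (Dual.HD A (Dual2.shriekVia n Rψ M) i)) ∧
      ∀ i : ℤ, Module.Finite A (Dual.HD A (Dual2.shriekVia n Rψ M) i) := by
  let P := MvPolynomial (Fin n) R
  haveI : PreservesFiniteLimits (ext (algebraMap R P)) := preservesFiniteLimits_ext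
  let L : Dual.D P := ((Shriek.polyD R n).obj M)⟦(n : ℤ)⟧
  let W := Dual2.shriekVia n Rψ M
  have hL : ∀ i : ℤ, Nonempty (Dual.HD P L i ≃ₗ[P] TensorProduct R P (Dual.HD R M ((n : ℤ) + i))) := fun i => by
    obtain ⟨e⟩ := nonempty_hd_shift ((Shriek.polyD R n).obj M) (n : ℤ) i
    exact ⟨e.trans ((locHD (algebraMap R P) M ((n : ℤ) + i)).toLinearEquiv.trans (tens P _))⟩
  have hLfin : ∀ i : ℤ, Module.Finite P (Dual.HD P L i) := fun i => by
    obtain ⟨e⟩ := hL i
    haveI := hfin ((n : ℤ) + i)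
    exact Module.Finite.equiv e.symm
  have hLb : ∀ i : ℤ, (i < lo - n ∨ hi - n < i) → Subsingleton (Dual.HD P L i) := fun i h => by
    obtain ⟨e⟩ := hL i
    haveI := hb ((n : ℤ) + i) (by omega)
    exact e.toEquiv.subsingleton
  haveI : L.IsLE (hi - n) := (DerivedCategory.isLE_iff L _).2 fun i h => by
    haveI := hLb i (Or.inr h)
    exact @ModuleCat.isZero_of_subsingleton _ _ _ ‹_›
  haveI : L.IsGE (lo - n) := (DerivedCategory.isGE_iff L _).2 fun i h => by
    haveI := hLb i (Or.inl h)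
    exact @ModuleCat.isZero_of_subsingleton _ _ _ ‹_›
  letI : Algebra P A := ψ.toRingHom.toAlgebra
  haveI : Module.Finite P A := Module.Finite.of_surjective (Algebra.linearMap P A) hψ
  obtain ⟨c, hc⟩ : Shriek.RA ψ.toRingHom W L := Shriek.shr_shriekVia ψ Rψ adj M
  have hc' : IsRA (A := P) (B := A) W L c := hc
  obtain ⟨F, a, b, hF, hFp, ⟨eF⟩⟩ := isPerfectModule_of_pf hψ hf
  refine ⟨⟨lo - n, hi - n - a, fun i h => ?_⟩, fun i => IsRA.finite_hd (A := P) (B := A) hc' hLfin
    (fun j hj => hLb j (Or.inl hj)) i⟩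
  let e₀ : ((res P A).obj (ModuleCat.of A A) : ModuleCat.{u} P) ≅ ModuleCat.of P A := resSelf (A := P) (B := A)
  have h1 : Subsingleton (Dual.inD P A ⟶ L⟦i⟧) := by
    rcases h with h | h
    · haveI : (L⟦i⟧).IsGE (lo - n - i) :=
        DerivedCategory.TStructure.t.isGE_shift L (lo - n) i (lo - n - i) (by omega)
      haveI : (Dual.inD P A).IsLE 0 :=
        inferInstanceAs (((DerivedCategory.singleFunctor (ModuleCat.{u} P) 0).obj _).IsLE 0)
      exact ⟨fun f g => (DerivedCategory.TStructure.t.zero f 0 (lo - n - i) (by omega)).trans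
        (DerivedCategory.TStructure.t.zero g 0 (lo - n - i) (by omega)).symm⟩
    · haveI : (L⟦i⟧).IsLE (hi - n - i) :=
        DerivedCategory.TStructure.t.isLE_shift L (hi - n) i (hi - n - i) (by omega)
      haveI := subsingleton_hom_of_isLE hF hFp (L⟦i⟧) (hi - n - i) (by omega)
      exact (eF.homCongr (Iso.refl (L⟦i⟧))).symm.subsingleton
  have h2 := IsRA.subsingleton_T hc' A i
    (((DerivedCategory.singleFunctor (ModuleCat.{u} P) 0).mapIso e₀).homCongr (Iso.refl (L⟦i⟧))).subsingleton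
  obtain ⟨e⟩ := nonempty_hd_shift W i 0
  haveI : Subsingleton (ModuleCat.of A A ⟶ (DerivedCategory.homologyFunctor (ModuleCat.{u} A) 0).obj (W⟦i⟧)) :=
    (WContr.DC.evEquiv (R := A) (ModuleCat.of A A) (W⟦i⟧)).symm.toEquiv.subsingleton
  haveI : Subsingleton (Dual.HD A (W⟦i⟧) 0) :=
    ((ModuleCat.homLinearEquiv (S := A) (M := ModuleCat.of A A)
      (N := (DerivedCategory.homologyFunctor (ModuleCat.{u} A) 0).obj (W⟦i⟧))).trans
      (LinearMap.ringLmapEquivSelf A A _)).symm.toEquiv.subsingleton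
  have h3 : Subsingleton (Dual.HD A W (i + 0)) := e.symm.toEquiv.subsingleton
  rwa [add_zero] at h3

end Groth.Agent.ShriekAffine
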