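import Groth.Agent.LocalCrit.Criterion
import Mathlib.RingTheory.Regular.Flat
import Mathlib.RingTheory.Regular.LinearMap
import Mathlib.Algebra.Homology.DerivedCategory.Ext.ExactSequences
import Mathlib.Algebra.Category.ModuleCat.Ext.Basic
import Mathlib.Algebra.Category.ModuleCat.ChangeOfRings
import Mathlib.Algebra.Homology.ShortComplex.ModuleCat

/-!
A semidualizing module of finite flat dimension over the base of a flat local map is flat over it.
-/

set_option autoImplicit false
set_option backward.isDefEq.respectTransparency false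
set_option linter.style.haveILetI false
set_option linter.unusedSectionVars false

universe u

open CategoryTheory Limits RingTheory.Sequence
open scoped TensorProduct Pointwise

namespace Groth.Agent.ShriekAffine

noncomputable section

section Semi

variable {A : Type u} [CommRing A] [IsNoetherianRing A] {M : Type u} [AddCommGroup M] [Module A M] [Module.Finite A M]

/-- `Hom(M, M/IM) = A/I` without higher extensions -/
structure HomQuot (M : Type u) [AddCommGroup M] [Module A M] (I : Ideal A) : Prop where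
  surj : ∀ g : M →ₗ[A] M ⧸ (I • ⊤ : Submodule A M), ∃ a : A, g = a • (I • ⊤ : Submodule A M).mkQ
  ker : ∀ a : A, a • (I • ⊤ : Submodule A M).mkQ = 0 → a ∈ I
  ext : ∀ i : ℕ, 1 ≤ i → Subsingleton (Abelian.Ext (ModuleCat.of A M)
    (ModuleCat.of A (M ⧸ (I • ⊤ : Submodule A M))) i)

variable (hann : Module.annihilator A M = ⊥) {I : Ideal A}

include hann

theorem HomQuot.isSMulRegular (h : HomQuot M I) {x : A} (hx : ∀ a, x * a ∈ I → a ∈ I) :
    IsSMulRegular (M ⧸ (I • ⊤ : Submodule A M)) x := by
  by_contra hreg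
  have hne : ¬ Subsingleton ((M ⧸ (Ideal.span {x} • ⊤ : Submodule A M)) →ₗ[A] M ⧸ (I • ⊤ : Submodule A M)) := by
    rw [IsSMulRegular.subsingleton_linearMap_iff]
    rintro ⟨r, hr, hr'⟩
    have hrad : r ∈ (Ideal.span {x}).radical := by
      rw [Ideal.radical_eq_sInf, Submodule.mem_sInf]
      rintro P ⟨hxP, hP⟩
      refine Module.annihilator_le_of_mem_support (p := ⟨P, hP⟩) ?_ hr
      rw [Module.support_quotient, Module.support_eq_zeroLocus, hann]
      exact ⟨fun y hy => by rw [(Submodule.mem_bot A).1 hy]; exact P.zero_mem, hxP⟩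
    obtain ⟨k, hk⟩ := hrad
    obtain ⟨a, ha⟩ := Ideal.mem_span_singleton'.1 hk
    have hk' : IsSMulRegular (M ⧸ (I • ⊤ : Submodule A M)) (r ^ k) := hr'.pow k
    rw [← ha, mul_comm] at hk'
    refine hreg (IsSMulRegular.of_mul (a := a) ?_)
    rwa [mul_comm]
  obtain ⟨φ, hφ⟩ := (not_subsingleton_iff_nontrivial.1 hne).exists_pair_ne
  obtain ⟨ψ, hψ, hne⟩ : ∃ ψ, ψ = φ - hφ.choose ∧ ψ ≠ 0 := ⟨_, rfl, sub_ne_zero.2 hφ.choose_spec⟩
  obtain ⟨a, ha⟩ := h.surj (ψ.comp (Ideal.span {x} • ⊤ : Submodule A M).mkQ)
  have hxa : (x * a) • (I • ⊤ : Submodule A M).mkQ = 0 := by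
    rw [mul_smul, ← ha]
    refine LinearMap.ext fun m => ?_
    show x • ψ (Submodule.Quotient.mk m) = 0
    rw [← map_smul, ← Submodule.Quotient.mk_smul, (Submodule.Quotient.mk_eq_zero _).2
      (Submodule.smul_mem_smul (Ideal.mem_span_singleton_self x) Submodule.mem_top), map_zero]
  have ha0 := hx a (h.ker _ hxa)
  refine hne (Submodule.linearMap_qext _ (ha.trans (LinearMap.ext fun m => ?_)))
  show a • Submodule.Quotient.mk m = (0 : M ⧸ (I • ⊤ : Submodule A M))
  rw [← Submodule.Quotient.mk_smul, Submodule.Quotient.mk_eq_zero]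
  exact Submodule.smul_mem_smul ha0 Submodule.mem_top

theorem HomQuot.step (h : HomQuot M I) {x : A} (hx : ∀ a, x * a ∈ I → a ∈ I) :
    HomQuot M (I ⊔ Ideal.span {x}) := by
  have hreg := h.isSMulRegular hann hx
  let P : Submodule A M := I • ⊤
  let Q : Submodule A M := (I ⊔ Ideal.span {x}) • ⊤
  let g : (M ⧸ P) →ₗ[A] M ⧸ Q := Submodule.mapQ P Q LinearMap.id (fun m hm => Submodule.smul_mono_left le_sup_left hm)
  have hg : ∀ m, g (Submodule.Quotient.mk m) = Submodule.Quotient.mk m := fun m => rfl
  let μ : (M ⧸ P) →ₗ[A] M ⧸ P := x • LinearMap.id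
  have hex : Function.Exact μ g := fun z => by
    obtain ⟨m, rfl⟩ := Submodule.Quotient.mk_surjective P z
    constructor
    · intro hz
      rw [hg, Submodule.Quotient.mk_eq_zero] at hz
      rw [show Q = P ⊔ Ideal.span {x} • ⊤ from Submodule.sup_smul _ _ _, Submodule.mem_sup] at hz
      obtain ⟨p, hp, q, hq, hpq⟩ := hz
      rw [Submodule.ideal_span_singleton_smul, Submodule.mem_smul_pointwise_iff_exists] at hq
      obtain ⟨n, -, rfl⟩ := hq
      refine ⟨(Submodule.Quotient.mk n : M ⧸ P), ?_⟩
      show x • (Submodule.Quotient.mk n : M ⧸ P) = _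
      rw [← Submodule.Quotient.mk_smul, ← hpq, Submodule.Quotient.mk_add, (Submodule.Quotient.mk_eq_zero P).2 hp,
        zero_add]
    · rintro ⟨w, hw⟩
      obtain ⟨n, rfl⟩ := Submodule.Quotient.mk_surjective P w
      rw [← hw]
      show g (x • Submodule.Quotient.mk n) = 0
      rw [← Submodule.Quotient.mk_smul, hg, Submodule.Quotient.mk_eq_zero]
      exact Submodule.smul_mem_smul (Submodule.mem_sup_right (Ideal.mem_span_singleton_self x)) Submodule.mem_top
  let S : ShortComplex (ModuleCat.{u} A) := ShortComplex.mk (ModuleCat.ofHom μ) (ModuleCat.ofHom g)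
    (ModuleCat.hom_ext (LinearMap.ext fun z => hex.apply_apply_eq_zero z))
  have hS : S.ShortExact :=
    { exact := (ShortComplex.moduleCat_exact_iff S).2 fun z hz => (hex z).1 hz
      mono_f := (ModuleCat.mono_iff_injective _).2 hreg
      epi_g := (ModuleCat.epi_iff_surjective _).2 fun z =>
        (Submodule.Quotient.mk_surjective Q z).elim fun m hm => ⟨Submodule.Quotient.mk m, (hg m).trans hm⟩ }
  refine ⟨fun t => ?_, fun a ha => ?_, fun i hi => ?_⟩
  · haveI := h.ext 1 le_rfl
    obtain ⟨t', ht'⟩ := Abelian.Ext.covariant_sequence_exact₃ (ModuleCat.of A M) hS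
      (Abelian.Ext.mk₀ (ModuleCat.ofHom t)) (zero_add 1) (@Subsingleton.elim _ (h.ext 1 le_rfl) _ _)
    rw [← Abelian.Ext.mk₀_homEquiv₀_apply t', Abelian.Ext.mk₀_comp_mk₀] at ht'
    have e := (Abelian.Ext.mk₀_bijective _ _).1 ht'
    obtain ⟨a, ha⟩ := h.surj (Abelian.Ext.homEquiv₀ t').hom
    refine ⟨a, ?_⟩
    rw [show t = g.comp (Abelian.Ext.homEquiv₀ t').hom from (congrArg ModuleCat.Hom.hom e).symm, ha]
    exact LinearMap.ext fun m => (map_smul g a (Submodule.Quotient.mk m : M ⧸ P)).trans rfl
  · have hmem : ∀ m, ∃ w, x • w = a • (Submodule.Quotient.mk m : M ⧸ P) := fun m => (hex _).1 (by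
      rw [map_smul, hg]
      exact congr($ha m))
    choose w hw using hmem
    let φ : M →ₗ[A] M ⧸ P :=
      { toFun := w
        map_add' := fun m n => hreg (by
          show x • _ = x • _
          rw [smul_add, hw, hw, hw, Submodule.Quotient.mk_add, smul_add])
        map_smul' := fun c m => hreg (by
          show x • _ = x • (c • _)
          rw [smul_comm x c, hw, hw, Submodule.Quotient.mk_smul, smul_comm]) }
    obtain ⟨b, hb⟩ := h.surj φ
    have : a - x * b ∈ I := h.ker _ (LinearMap.ext fun m => by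
      show (a - x * b) • (Submodule.Quotient.mk m : M ⧸ P) = 0
      rw [sub_smul, mul_smul, sub_eq_zero, ← hw m]
      exact congrArg (x • ·) congr($hb m))
    rw [show a = (a - x * b) + x * b by ring]
    exact add_mem (Submodule.mem_sup_left this)
      (Submodule.mem_sup_right (Ideal.mul_mem_right _ _ (Ideal.mem_span_singleton_self x)))
  · refine subsingleton_of_forall_eq 0 fun t => ?_
    obtain ⟨t', rfl⟩ := Abelian.Ext.covariant_sequence_exact₃ (ModuleCat.of A M) hS t rfl
      (@Subsingleton.elim _ (h.ext (i + 1) (by omega)) _ _)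
    rw [show t' = 0 from @Subsingleton.elim _ (h.ext i hi) _ _, Abelian.Ext.zero_comp]

/-- regular sequences on `A` are regular on a semidualizing module -/
theorem isWeaklyRegular_of_homQuot (h : HomQuot M (⊥ : Ideal A)) (ys : List A) (hys : IsWeaklyRegular A ys) :
    IsWeaklyRegular M ys ∧ HomQuot M (Ideal.ofList ys) := by
  induction ys using List.reverseRecOn with
  | nil => exact ⟨IsWeaklyRegular.nil A M, by rwa [Ideal.ofList_nil]⟩
  | append_singleton ys y ih =>
    rw [isWeaklyRegular_append_iff, isWeaklyRegular_cons_iff] at hys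
    obtain ⟨h1, hy, -⟩ := hys
    obtain ⟨h2, h3⟩ := ih h1
    have hy' : ∀ a, y * a ∈ Ideal.ofList ys → a ∈ Ideal.ofList ys := fun a ha => by
      have h4 : (Submodule.Quotient.mk a : A ⧸ (Ideal.ofList ys • ⊤ : Submodule A A)) = 0 := hy (by
        show y • _ = y • (0 : A ⧸ (Ideal.ofList ys • ⊤ : Submodule A A))
        rw [smul_zero, ← Submodule.Quotient.mk_smul, Submodule.Quotient.mk_eq_zero, Ideal.smul_eq_mul,
          Ideal.mul_top, smul_eq_mul]
        exact ha)
      rwa [Submodule.Quotient.mk_eq_zero, Ideal.smul_eq_mul, Ideal.mul_top] at h4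
    refine ⟨(isWeaklyRegular_append_iff M ys [y]).2 ⟨h2, (isWeaklyRegular_cons_iff _ y []).2
      ⟨h3.isSMulRegular hann hy', IsWeaklyRegular.nil A _⟩⟩, ?_⟩
    rw [Ideal.ofList_append, Ideal.ofList_singleton]
    exact h3.step hann hy'

end Semi

section Depth

variable {R : Type u} [CommRing R] [IsNoetherianRing R] [IsLocalRing R]

/-- a weakly regular sequence with depth zero quotient -/
theorem exists_regular_socle (J : Ideal R) : ∀ xs : List R, Ideal.ofList xs = J →
    (∀ x ∈ xs, x ∈ IsLocalRing.maximalIdeal R) → IsWeaklyRegular R xs →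
    ∃ ys : List R, IsWeaklyRegular R ys ∧ ∃ ξ : R, ξ ∉ Ideal.ofList ys ∧
      ∀ m ∈ IsLocalRing.maximalIdeal R, m * ξ ∈ Ideal.ofList ys := by
  induction J using WellFoundedGT.induction with
  | ind J ih =>
    intro xs hJ hxs hreg
    subst hJ
    let N := R ⧸ (Ideal.ofList xs • ⊤ : Submodule R R)
    by_cases hass : ∃ x ∈ IsLocalRing.maximalIdeal R, IsSMulRegular N x
    · obtain ⟨x, hxm, hx⟩ := hass
      have hle : Ideal.ofList xs ≤ IsLocalRing.maximalIdeal R := Ideal.span_le.2 fun y hy => hxs y hy
      refine ih (Ideal.ofList (xs ++ [x])) ?_ (xs ++ [x]) rfl (by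
          intro y hy
          rcases List.mem_append.1 hy with hy | hy
          · exact hxs y hy
          · rw [List.mem_singleton.1 hy]; exact hxm)
        ((isWeaklyRegular_append_iff R xs [x]).2 ⟨hreg, (isWeaklyRegular_cons_iff _ x []).2
          ⟨hx, IsWeaklyRegular.nil R _⟩⟩)
      rw [Ideal.ofList_append, Ideal.ofList_singleton]
      refine lt_of_le_of_ne le_sup_left fun he => ?_
      have hx0 : x ∈ Ideal.ofList xs := he ▸ Submodule.mem_sup_right (Ideal.mem_span_singleton_self x)
      have h1 : (Submodule.Quotient.mk 1 : N) = 0 := hx (by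
        show x • _ = x • (0 : N)
        rw [smul_zero, ← Submodule.Quotient.mk_smul, Submodule.Quotient.mk_eq_zero, Ideal.smul_eq_mul, Ideal.mul_top,
          smul_eq_mul, mul_one]
        exact hx0)
      rw [Submodule.Quotient.mk_eq_zero, Ideal.smul_eq_mul, Ideal.mul_top] at h1
      exact (IsLocalRing.maximalIdeal.isMaximal R).ne_top (Ideal.eq_top_of_isUnit_mem _ (hle h1) isUnit_one)
    · push Not at hass
      have hsub : (IsLocalRing.maximalIdeal R : Set R) ⊆ ⋃ p ∈ associatedPrimes R N, (p : Set R) := by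
        rw [biUnion_associatedPrimes_eq_compl_regular R N]
        exact fun r hr => hass r hr
      obtain ⟨p, hp, hle⟩ := (Ideal.subset_union_prime_finite (associatedPrimes.finite R N) ⊥ ⊥
        (fun I hin _ _ => IsAssociatedPrime.isPrime hin)).1 hsub
      obtain ⟨hprime, z, hz⟩ := isAssociatedPrime_iff.1 (AssociatedPrimes.mem_iff.1 hp)
      obtain ⟨ξ, rfl⟩ := Submodule.Quotient.mk_surjective _ z
      refine ⟨xs, hreg, ξ, fun hξ => hprime.ne_top ?_, fun m hm => ?_⟩
      · rw [hz, Ideal.eq_top_iff_one, Submodule.mem_colon_singleton, one_smul, Submodule.mem_bot,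
          Submodule.Quotient.mk_eq_zero, Ideal.smul_eq_mul, Ideal.mul_top]
        exact hξ
      · have h2 := hle hm
        rw [hz, Submodule.mem_colon_singleton, Submodule.mem_bot, ← Submodule.Quotient.mk_smul,
          Submodule.Quotient.mk_eq_zero, Ideal.smul_eq_mul, Ideal.mul_top, smul_eq_mul] at h2
        exact h2

end Depth

section Ses

variable {R : Type u} [CommRing R]

/-- weak regularity of the submodule of an extension, and injectivity modulo the sequence -/
theorem isWeaklyRegular_ses (xs : List R) : ∀ (K F M : Type u) [AddCommGroup K] [AddCommGroup F] [AddCommGroup M]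
    [Module R K] [Module R F] [Module R M] (f : K →ₗ[R] F) (g : F →ₗ[R] M), Function.Injective f →
    Function.Exact f g → Function.Surjective g → IsWeaklyRegular F xs → IsWeaklyRegular M xs →
    IsWeaklyRegular K xs ∧ ∀ k, f k ∈ (Ideal.ofList xs • ⊤ : Submodule R F) → k ∈ (Ideal.ofList xs • ⊤ : Submodule R K) := by
  induction xs with
  | nil =>
    intro K F M _ _ _ _ _ _ f g hf _ _ _ _
    refine ⟨IsWeaklyRegular.nil R K, fun k hk => ?_⟩
    rw [Ideal.ofList_nil, Submodule.bot_smul, Submodule.mem_bot] at hk ⊢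
    exact hf (hk.trans (map_zero f).symm)
  | cons x xs ih =>
    intro K F M _ _ _ _ _ _ f g hf hex hg hF hM
    rw [isWeaklyRegular_cons_iff] at hF hM
    have hxK : IsSMulRegular K x := fun a b hab => hf (hF.1 (by
      show x • f a = x • f b
      rw [← map_smul, ← map_smul]
      exact congrArg f hab))
    have hmem : ∀ k, f k ∈ (x • ⊤ : Submodule R F) → k ∈ (x • ⊤ : Submodule R K) := fun k hk => by
      obtain ⟨y, -, hy⟩ := (Submodule.mem_smul_pointwise_iff_exists _ _ _).1 hk
      have hgy : g y = 0 := hM.1 (by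
        show x • g y = x • (0 : M)
        rw [smul_zero, ← map_smul, hy, hex.apply_apply_eq_zero])
      obtain ⟨k', hk'⟩ := (hex y).1 hgy
      rw [show k = x • k' from hf (by rw [map_smul, hk', hy])]
      exact Submodule.smul_mem_pointwise_smul _ _ _ Submodule.mem_top
    have hinj : Function.Injective (QuotSMulTop.map x f) := by
      rw [← LinearMap.ker_eq_bot, LinearMap.ker_eq_bot']
      intro z hz
      obtain ⟨k, rfl⟩ := Submodule.Quotient.mk_surjective _ z
      rw [QuotSMulTop.map_apply_mk, Submodule.Quotient.mk_eq_zero] at hz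
      rw [Submodule.Quotient.mk_eq_zero]
      exact hmem k hz
    have hex' : Function.Exact (QuotSMulTop.map x f) (QuotSMulTop.map x g) := fun z => by
      obtain ⟨y, rfl⟩ := Submodule.Quotient.mk_surjective _ z
      rw [QuotSMulTop.map_apply_mk, Submodule.Quotient.mk_eq_zero]
      constructor
      · intro h
        obtain ⟨m, -, hm⟩ := (Submodule.mem_smul_pointwise_iff_exists _ _ _).1 h
        obtain ⟨w, rfl⟩ := hg m
        obtain ⟨k, hk⟩ := (hex (y - x • w)).1 (by rw [map_sub, map_smul, hm, sub_self])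
        refine ⟨Submodule.Quotient.mk k, ?_⟩
        rw [QuotSMulTop.map_apply_mk, hk, Submodule.Quotient.eq]
        rw [sub_sub_cancel_left]
        exact neg_mem (Submodule.smul_mem_pointwise_smul _ _ _ Submodule.mem_top)
      · rintro ⟨w, hw⟩
        obtain ⟨k, rfl⟩ := Submodule.Quotient.mk_surjective _ w
        rw [QuotSMulTop.map_apply_mk, Submodule.Quotient.eq] at hw
        obtain ⟨v, -, hv⟩ := (Submodule.mem_smul_pointwise_iff_exists _ _ _).1 hw
        rw [show g y = -(x • g v) by rw [← map_smul, hv, map_sub, hex.apply_apply_eq_zero, zero_sub, neg_neg]]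
        exact neg_mem (Submodule.smul_mem_pointwise_smul _ _ _ Submodule.mem_top)
    obtain ⟨h1, h2⟩ := ih _ _ _ (QuotSMulTop.map x f) (QuotSMulTop.map x g) hinj hex' (fun z => (Submodule.Quotient.mk_surjective _ z).elim fun m hm => (hg m).elim fun w hw =>
        ⟨Submodule.Quotient.mk w, by rw [QuotSMulTop.map_apply_mk, hw, hm]⟩) hF.2 hM.2
    refine ⟨(isWeaklyRegular_cons_iff K x xs).2 ⟨hxK, h1⟩, fun k hk => ?_⟩
    have e : ∀ (L : Type u) [AddCommGroup L] [Module R L] (l : L),
        l ∈ (Ideal.ofList (x :: xs) • ⊤ : Submodule R L) ↔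
          (Submodule.Quotient.mk l : QuotSMulTop x L) ∈ (Ideal.ofList xs • ⊤ : Submodule R (QuotSMulTop x L)) := by
      intro L _ _ l
      rw [Ideal.ofList_cons_smul, ← Submodule.mkQ_apply, ← Submodule.mem_comap,
        show (⊤ : Submodule R (QuotSMulTop x L)) = (⊤ : Submodule R L).map (Submodule.mkQ _) by
          rw [Submodule.map_top, Submodule.range_mkQ],
        ← Submodule.map_smul'', Submodule.comap_map_eq, Submodule.ker_mkQ, sup_comm]
    exact (e K k).2 (h2 _ (by rw [QuotSMulTop.map_apply_mk]; exact (e F (f k)).1 hk))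

/-- weakly regular sequences stay so after tensoring with a flat module -/
theorem isWeaklyRegular_tensor (F : Type u) [AddCommGroup F] [Module R F] [Module.Flat R F] (xs : List R) :
    ∀ (M : Type u) [AddCommGroup M] [Module R M], IsWeaklyRegular M xs → IsWeaklyRegular (F ⊗[R] M) xs := by
  induction xs with
  | nil => exact fun M _ _ _ => IsWeaklyRegular.nil R _
  | cons x xs ih =>
    intro M _ _ h
    rw [isWeaklyRegular_cons_iff] at h ⊢
    exact ⟨h.1.lTensor F, ((QuotSMulTop.tensorQuotSMulTopEquivQuotSMulTop x F M).isWeaklyRegular_congr xs).1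
      (ih _ h.2)⟩

end Ses

section Flat

variable {R A : Type u} [CommRing R] [CommRing A] [Algebra R A]

/-- some syzygy is flat over the base -/
def SyzFlat (R : Type u) [CommRing R] {A : Type u} [CommRing A] [Algebra R A] : ℕ → ModuleCat.{u} A → Prop
  | 0, M => Module.Flat R ((ModuleCat.restrictScalars.{u} (algebraMap R A)).obj M)
  | s + 1, M => ∃ (m : ℕ) (K : ModuleCat.{u} A) (f : K →ₗ[A] (Fin m → A)) (g : (Fin m → A) →ₗ[A] M),
      Function.Injective f ∧ Function.Exact f g ∧ Function.Surjective g ∧ SyzFlat R s K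

variable [IsNoetherianRing R] [IsLocalRing R] [IsNoetherianRing A] [IsLocalRing A] [IsLocalHom (algebraMap R A)]
  [Module.Flat R A]

/-- finite flat dimension and regularity of a maximal regular sequence force flatness -/
theorem flat_of_syzFlat {xs : List R} (hxs : IsWeaklyRegular R xs) {ξ : R} (hξ : ξ ∉ Ideal.ofList xs)
    (hm : ∀ m ∈ IsLocalRing.maximalIdeal R, m * ξ ∈ Ideal.ofList xs) : ∀ (s : ℕ) (M : Type u) [AddCommGroup M]
    [Module A M] [Module R M] [IsScalarTower R A M] [Module.Finite A M],
    SyzFlat R s (ModuleCat.of A M) → IsWeaklyRegular M xs → Module.Flat R M := by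
  intro s
  induction s with
  | zero =>
    intro M _ _ _ _ _ h _
    let l : (ModuleCat.restrictScalars.{u} (algebraMap R A)).obj (ModuleCat.of A M) ≃ₗ[R] M :=
      { toFun := fun x => x
        map_add' := fun _ _ => rfl
        map_smul' := fun r x => algebraMap_smul A r (show M from x)
        invFun := fun x => x
        left_inv := fun _ => rfl
        right_inv := fun _ => rfl }
    haveI hfl : Module.Flat R ((ModuleCat.restrictScalars.{u} (algebraMap R A)).obj (ModuleCat.of A M)) := h
    exact @Module.Flat.of_linearEquiv _ _ _ _ _ _ _ _ hfl l.symm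
  | succ s ih =>
    intro M _ _ _ _ _ h hM
    obtain ⟨m, K, f, g, hf, hex, hg, hK⟩ := h
    letI : Module R K := Module.compHom K (algebraMap R A)
    haveI : IsScalarTower R A K := IsScalarTower.of_algebraMap_smul fun _ _ => rfl
    haveI : Module.Finite A K := Module.Finite.of_injective f hf
    haveI : Module.Flat R (Fin m → A) := Module.Flat.trans R A (Fin m → A)
    have hF : IsWeaklyRegular (Fin m → A) xs :=
      ((TensorProduct.rid R (Fin m → A)).isWeaklyRegular_congr xs).1 (isWeaklyRegular_tensor (Fin m → A) xs R hxs)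
    obtain ⟨hKreg, hKmem⟩ := isWeaklyRegular_ses xs K (Fin m → A) M (f.restrictScalars R) (g.restrictScalars R)
      hf hex hg hF hM
    haveI : Module.Flat R K := ih K hK hKreg
    let 𝔪 := IsLocalRing.maximalIdeal R
    let J := Ideal.ofList xs
    -- `f` stays injective on the closed fibre
    have hres : ∀ k : K, f k ∈ (𝔪 • ⊤ : Submodule R (Fin m → A)) → k ∈ (𝔪 • ⊤ : Submodule R K) := by
      intro k hk
      have h1 : f (ξ • k) ∈ (J • ⊤ : Submodule R (Fin m → A)) := by
        rw [LinearMap.map_smul_of_tower]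
        refine Submodule.smul_induction_on hk (fun a ha y _ => ?_) fun a b ha hb => by
          rw [smul_add]; exact add_mem ha hb
        rw [smul_smul, mul_comm]
        exact Submodule.smul_mem_smul (hm a ha) Submodule.mem_top
      have h2 := hKmem _ h1
      let j : (R ⧸ 𝔪) →ₗ[R] R ⧸ J := Submodule.mapQ 𝔪 J (ξ • LinearMap.id) fun a ha => by
        show ξ * a ∈ J
        rw [mul_comm]
        exact hm a ha
      have hj : Function.Injective j := by
        rw [← LinearMap.ker_eq_bot, LinearMap.ker_eq_bot']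
        intro z hz
        obtain ⟨a, rfl⟩ := Submodule.Quotient.mk_surjective _ z
        rw [Submodule.mapQ_apply, Submodule.Quotient.mk_eq_zero] at hz
        rw [Submodule.Quotient.mk_eq_zero]
        by_contra hu
        obtain ⟨b, hb⟩ := (IsLocalRing.notMem_maximalIdeal.1 hu).exists_left_inv
        refine hξ ?_
        rw [show ξ = b * (ξ * a) by rw [mul_left_comm, hb, mul_one]]
        exact Ideal.mul_mem_left _ _ hz
      have h3 : j.rTensor K ((Submodule.Quotient.mk 1 : R ⧸ 𝔪) ⊗ₜ k) = 0 := by
        rw [LinearMap.rTensor_tmul]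
        show (Submodule.Quotient.mk (ξ * 1) : R ⧸ J) ⊗ₜ[R] k = 0
        rw [mul_one, show (Submodule.Quotient.mk ξ : R ⧸ J) = ξ • Submodule.Quotient.mk 1 by
          rw [← Submodule.Quotient.mk_smul, smul_eq_mul, mul_one], TensorProduct.smul_tmul]
        refine (TensorProduct.quotTensorEquivQuotSMul K J).injective ?_
        rw [map_zero, Ideal.Quotient.mk_eq_mk, map_one]
        exact (TensorProduct.quotTensorEquivQuotSMul_mk_tmul J 1 (ξ • k)).trans
          (by rw [one_smul, Submodule.Quotient.mk_eq_zero]; exact h2)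
      have h4 := Module.Flat.rTensor_preserves_injective_linearMap (M := K) j hj (h3.trans (map_zero _).symm)
      have h5 := congrArg (TensorProduct.quotTensorEquivQuotSMul K 𝔪) h4
      rw [map_zero] at h5
      exact (Submodule.Quotient.mk_eq_zero _).1
        ((((TensorProduct.quotTensorEquivQuotSMul_mk_tmul 𝔪 1 k).trans (by rw [one_smul]))).symm.trans h5)
    refine LocalCrit.flat_of_mulMap_injective A ?_
    rw [← LinearMap.ker_eq_bot, LinearMap.ker_eq_bot']
    intro t ht
    obtain ⟨t', rfl⟩ := LinearMap.lTensor_surjective (𝔪 : Submodule R R) (g := g.restrictScalars R) hg t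
    have hnat : ∀ {P Q : Type u} [AddCommGroup P] [AddCommGroup Q] [Module R P] [Module R Q] (φ : P →ₗ[R] Q)
        (z : 𝔪 ⊗[R] P), φ (LocalCrit.mulMap 𝔪 P z) = LocalCrit.mulMap 𝔪 Q (φ.lTensor 𝔪 z) := by
      intro P Q _ _ _ _ φ z
      induction z using TensorProduct.induction_on with
      | zero => simp
      | tmul a p => simp
      | add a b ha hb => simp [ha, hb]
    rw [← hnat] at ht
    obtain ⟨k, hk⟩ := (hex _).1 ht
    have hk' : k ∈ LinearMap.range (LocalCrit.mulMap 𝔪 K) := by
      rw [LocalCrit.range_mulMap]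
      refine hres k ?_
      rw [hk, ← LocalCrit.range_mulMap]
      exact ⟨t', rfl⟩
    obtain ⟨t'', rfl⟩ := hk'
    have hinj : Function.Injective (LocalCrit.mulMap 𝔪 (Fin m → A)) := by
      rw [LocalCrit.mulMap, LinearMap.coe_comp]
      exact (TensorProduct.lid R (Fin m → A)).injective.comp
        (Module.Flat.rTensor_preserves_injective_linearMap _ (Submodule.injective_subtype 𝔪))
    have he : t' = (f.restrictScalars R).lTensor 𝔪 t'' := hinj (hk.symm.trans (hnat (f.restrictScalars R) t''))
    rw [he, ← LinearMap.comp_apply, ← LinearMap.lTensor_comp,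
      show (g.restrictScalars R) ∘ₗ (f.restrictScalars R) = 0 from LinearMap.ext fun y => hex.apply_apply_eq_zero y,
      LinearMap.lTensor_zero, LinearMap.zero_apply]

/-- **semidualizing of finite flat dimension implies flat** -/
theorem flat_of_semidualizing (M : Type u) [AddCommGroup M] [Module A M] [Module R M] [IsScalarTower R A M]
    [Module.Finite A M] (hEnd : Function.Bijective fun a : A => a • (LinearMap.id : M →ₗ[A] M))
    (hExt : ∀ i : ℕ, 1 ≤ i → Subsingleton (Abelian.Ext (ModuleCat.of A M) (ModuleCat.of A M) i))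
    {s : ℕ} (hs : SyzFlat R s (ModuleCat.of A M)) : Module.Flat R M := by
  obtain ⟨xs, hxs, ξ, hξ, hm⟩ := exists_regular_socle (R := R) _ [] rfl (by simp) (IsWeaklyRegular.nil R R)
  have hann : Module.annihilator A M = ⊥ := by
    rw [eq_bot_iff]
    intro a ha
    exact hEnd.1 (LinearMap.ext fun m => by simp [Module.mem_annihilator.1 ha m])
  let e : (M ⧸ ((⊥ : Ideal A) • ⊤ : Submodule A M)) ≃ₗ[A] M :=
    Submodule.quotEquivOfEqBot _ (Submodule.bot_smul _)
  have h0 : HomQuot M (⊥ : Ideal A) := by
    refine ⟨fun g => ?_, fun a ha => ?_, fun i hi => ?_⟩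
    · obtain ⟨a, ha⟩ := hEnd.2 (e.toLinearMap.comp g)
      exact ⟨a, LinearMap.ext fun m => e.injective (by
        show e (g m) = e (a • Submodule.Quotient.mk m)
        rw [map_smul]
        exact (congr($ha m)).symm)⟩
    · refine hEnd.1 (LinearMap.ext fun m => ?_)
      have := congrArg e (congr($ha m))
      rw [LinearMap.smul_apply, map_smul, LinearMap.zero_apply, map_zero] at this
      show a • m = (0 : A) • m
      rw [zero_smul]
      exact this
    · refine subsingleton_of_forall_eq 0 fun t => ?_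
      have ht : t.comp (Abelian.Ext.mk₀ e.toModuleIso.hom) (add_zero i) = 0 := @Subsingleton.elim _ (hExt i hi) _ _
      rw [← t.comp_mk₀_id, ← e.toModuleIso.hom_inv_id, ← Abelian.Ext.mk₀_comp_mk₀,
        ← Abelian.Ext.comp_assoc_of_second_deg_zero, ht, Abelian.Ext.zero_comp]
  obtain ⟨hM, -⟩ := isWeaklyRegular_of_homQuot hann h0 _ (hxs.of_flat (S := A))
  exact flat_of_syzFlat hxs hξ hm s M hs ((isWeaklyRegular_map_algebraMap_iff A M xs).1 hM)

end Flat

end

end Groth.Agent.ShriekAffine
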